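import Groth.Prelude.Def_DescFam
import Groth.Agent.SchDescent.IndQAEff
import Groth.Agent.SchDescent.Glue
import Groth.Agent.HomRep.BC

/-!
# Representability of homomorphisms descends along fpqc coverings
-/

set_option autoImplicit false
set_option linter.style.haveILetI false
set_option linter.unusedSectionVars false
set_option backward.isDefEq.respectTransparency false
set_option maxHeartbeats 1000000
set_option synthInstance.maxHeartbeats 400000

universe u

open CategoryTheory Limits MonoidalCategory CartesianMonoidalCategory AlgebraicGeometry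
open scoped CategoryTheory.Obj MonObj

noncomputable section

namespace Groth.Agent.HomDiag.Fpqc

open Groth.Agent.HomRep (famBC)

variable {S : Scheme.{u}}

/-- morphisms out of a product glue along fpqc coverings of the second factor -/
theorem existsUnique_glue_prod {H G T : Over S} {κ : Type u} {P : κ → Over S} (c : ∀ i, P i ⟶ T)
    (hc : Presieve.ofArrows (fun i => (P i).left) (fun i => (c i).left) ∈ Scheme.fpqcPrecoverage T.left)
    (φ : ∀ i, H ⊗ P i ⟶ G)
    (hφ : ∀ (i j : κ) (X : Over S) (x : X ⟶ H) (a : X ⟶ P i) (b : X ⟶ P j),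
      a ≫ c i = b ≫ c j → lift x a ≫ φ i = lift x b ≫ φ j) :
    ∃! z : H ⊗ T ⟶ G, ∀ i, (H ◁ c i) ≫ z = φ i := by
  let Q : κ → Scheme.{u} := fun i => pullback (snd H T).left (c i).left
  let g : ∀ i, Q i ⟶ (H ⊗ T).left := fun i => pullback.fst _ _
  have hQ : Presieve.ofArrows Q g ∈ Scheme.fpqcPrecoverage (H ⊗ T).left :=
    Precoverage.mem_coverings_of_isPullback _ hc (snd H T).left g (fun i => pullback.snd _ _)
      fun i => IsPullback.of_hasPullback _ _
  let E : κ → Over S := fun i => Over.mk (g i ≫ (H ⊗ T).hom)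
  let eg : ∀ i, E i ⟶ H ⊗ T := fun i => Over.homMk (g i) rfl
  let ep : ∀ i, E i ⟶ P i := fun i => Over.homMk (pullback.snd _ _) (by
    show pullback.snd _ _ ≫ (P i).hom = g i ≫ (H ⊗ T).hom
    rw [← Over.w (c i), ← pullback.condition_assoc, Over.w (snd H T)])
  have hep : ∀ i, ep i ≫ c i = eg i ≫ snd H T := fun i => Over.OverMorphism.ext pullback.condition.symm
  let l : ∀ i, E i ⟶ H ⊗ P i := fun i => lift (eg i ≫ fst H T) (ep i)
  have hl : ∀ i, l i ≫ (H ◁ c i) = eg i := fun i => by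
    rw [lift_whiskerLeft, hep]
    apply CartesianMonoidalCategory.hom_ext <;> simp
  have hcompat : ∀ i j, pullback.fst (g i) (g j) ≫ (l i ≫ φ i).left =
      pullback.snd (g i) (g j) ≫ (l j ≫ φ j).left := by
    intro i j
    let W : Over S := Over.mk ((pullback.fst (g i) (g j) ≫ g i) ≫ (H ⊗ T).hom)
    let a : W ⟶ E i := Over.homMk (pullback.fst _ _) (Category.assoc _ _ _).symm
    let b : W ⟶ E j := Over.homMk (pullback.snd _ _) (by
      show pullback.snd (g i) (g j) ≫ g j ≫ _ = _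
      rw [← pullback.condition_assoc]
      exact (Category.assoc _ _ _).symm)
    have hab : a ≫ eg i = b ≫ eg j := Over.OverMorphism.ext pullback.condition
    have h := hφ i j W (a ≫ eg i ≫ fst H T) (a ≫ ep i) (b ≫ ep j) (by
      rw [Category.assoc, Category.assoc, hep, hep, reassoc_of% hab])
    have h' : a ≫ l i ≫ φ i = b ≫ l j ≫ φ j := by
      simp only [l, comp_lift_assoc]
      rw [← reassoc_of% hab]
      exact h
    exact congrArg CommaMorphism.left h'
  obtain ⟨y, hy, hyu⟩ := Groth.Agent.SchDescent.existsUnique_glue hQ _ hcompat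
  have hw : y ≫ G.hom = (H ⊗ T).hom := Groth.Agent.SchDescent.hom_ext_cover hQ fun i => by
    rw [reassoc_of% (hy i)]
    exact Over.w (l i ≫ φ i)
  refine ⟨Over.homMk y hw, fun i => ?_, fun z hz => ?_⟩
  · let k : (H ⊗ P i).left ⟶ Q i := pullback.lift (H ◁ c i).left (snd H (P i)).left
      (congrArg CommaMorphism.left (whiskerLeft_snd H (c i)))
    let k' : H ⊗ P i ⟶ E i := Over.homMk k (by
      show k ≫ g i ≫ _ = _
      rw [← Category.assoc, show k ≫ g i = _ from pullback.lift_fst _ _ _]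
      exact Over.w _)
    have e1 : k' ≫ eg i = H ◁ c i := Over.OverMorphism.ext (pullback.lift_fst _ _ _)
    have e2 : k' ≫ ep i = snd _ _ := Over.OverMorphism.ext (pullback.lift_snd _ _ _)
    have e3 : k' ≫ l i ≫ φ i = φ i := by
      simp only [l, comp_lift_assoc]
      rw [reassoc_of% e1, e2, whiskerLeft_fst, lift_fst_snd, Category.id_comp]
    apply Over.OverMorphism.ext
    refine Eq.trans ?_ (congrArg CommaMorphism.left e3)
    show (H ◁ c i).left ≫ y = k ≫ (l i ≫ φ i).left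
    rw [← hy i, ← Category.assoc]
    congr 1
    exact (pullback.lift_fst _ _ _).symm
  · apply Over.OverMorphism.ext
    refine hyu z.left fun i => ?_
    have h : eg i ≫ z = l i ≫ φ i := by rw [← hz i, ← Category.assoc, hl]
    exact congrArg CommaMorphism.left h

theorem isHomFamily_res' {H G T T' : Over S} [GrpObj H] [GrpObj G] {φ : H ⊗ T ⟶ G}
    (h : AutFam.IsHomFamily H G φ) (v : T' ⟶ T) : AutFam.IsHomFamily H G ((H ◁ v) ≫ φ) := fun X a b t => by
  rw [lift_whiskerLeft_assoc, lift_whiskerLeft_assoc, lift_whiskerLeft_assoc]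
  exact h X a b (t ≫ v)

/-- a family which is a family of homomorphisms on a covering is one -/
theorem isHomFamily_of_cover {H G T : Over S} [GrpObj H] [GrpObj G] {κ : Type u} {P : κ → Over S} (c : ∀ i, P i ⟶ T)
    (hc : Presieve.ofArrows (fun i => (P i).left) (fun i => (c i).left) ∈ Scheme.fpqcPrecoverage T.left)
    {z : H ⊗ T ⟶ G} (h : ∀ i, AutFam.IsHomFamily H G ((H ◁ c i) ≫ z)) : AutFam.IsHomFamily H G z := by
  intro X a b t
  apply Over.OverMorphism.ext
  let R : κ → Scheme.{u} := fun i => pullback t.left (c i).left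
  let q : ∀ i, R i ⟶ X.left := fun i => pullback.fst _ _
  have hR : Presieve.ofArrows R q ∈ Scheme.fpqcPrecoverage X.left :=
    Precoverage.mem_coverings_of_isPullback _ hc t.left q (fun i => pullback.snd _ _)
      fun i => IsPullback.of_hasPullback _ _
  refine Groth.Agent.SchDescent.hom_ext_cover hR fun i => ?_
  let W : Over S := Over.mk (q i ≫ X.hom)
  let w : W ⟶ X := Over.homMk (q i) rfl
  let t' : W ⟶ P i := Over.homMk (pullback.snd _ _) (by
    show pullback.snd _ _ ≫ (P i).hom = q i ≫ X.hom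
    rw [← Over.w (c i), ← pullback.condition_assoc, Over.w t])
  have ht : w ≫ t = t' ≫ c i := Over.OverMorphism.ext pullback.condition
  have hl : ∀ d : X ⟶ H, w ≫ lift d t ≫ z = lift (w ≫ d) t' ≫ (H ◁ c i) ≫ z := fun d => by
    rw [lift_whiskerLeft_assoc, comp_lift_assoc, ht]
  have e : w ≫ lift (a * b) t ≫ z = w ≫ ((lift a t ≫ z) * (lift b t ≫ z)) := by
    rw [hl, MonObj.comp_mul, MonObj.comp_mul, hl, hl]
    exact h i W (w ≫ a) (w ≫ b) t'
  exact congrArg CommaMorphism.left e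

variable {H G : Over S} [GrpObj H] [GrpObj G] {κ : Type u} {X : κ → Scheme.{u}}

/-- the base changed representing object, seen over the base, classifies families over schemes over the cover -/
theorem existsUnique_pt {S' : Scheme.{u}} (f : S' ⟶ S) {A : Over S'} {υ : Red.bc f H ⊗ A ⟶ Red.bc f G}
    (hA : AutFam.RepresentsHom (Red.bc f H) (Red.bc f G) A υ) {φ₀ : H ⊗ (Over.map f).obj A ⟶ G}
    (hφ₀ : famBC f φ₀ = υ) (T : Over S) (x : T.left ⟶ S') (hx : x ≫ f = T.hom) (φ : H ⊗ T ⟶ G)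
    (hφ : AutFam.IsHomFamily H G φ) :
    ∃! a : T ⟶ (Over.map f).obj A, a.left ≫ A.hom = x ∧ (H ◁ a) ≫ φ₀ = φ := by
  let T' : Over S' := Over.mk x
  let i : (Over.map f).obj T' ⟶ T := Over.homMk (𝟙 _) (by
    show 𝟙 T.left ≫ T.hom = x ≫ f
    rw [Category.id_comp, hx])
  let i' : T ⟶ (Over.map f).obj T' := Over.homMk (𝟙 _) (by
    show 𝟙 T.left ≫ x ≫ f = T.hom
    rw [Category.id_comp, hx])
  have hii : i' ≫ i = 𝟙 T := Over.OverMorphism.ext (Category.id_comp _)
  have hii' : i ≫ i' = 𝟙 _ := Over.OverMorphism.ext (Category.id_comp _)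
  obtain ⟨a, ha, hau⟩ := hA.2 T' (famBC f ((H ◁ i) ≫ φ))
    ((Groth.Agent.HomRep.isHomFamily_famBC f _).2 (isHomFamily_res' hφ i))
  have key : ∀ b : T' ⟶ A, (Red.bc f H ◁ b) ≫ υ = famBC f ((H ◁ i) ≫ φ) ↔
      (H ◁ (i' ≫ (Over.map f).map b)) ≫ φ₀ = φ := by
    intro b
    rw [← hφ₀, Groth.Agent.HomRep.famBC_whiskerLeft, (Groth.Agent.HomRep.famBC_bijective f H G T').1.eq_iff]
    constructor
    · intro h
      rw [whiskerLeft_comp_assoc, h, ← whiskerLeft_comp_assoc, hii, whiskerLeft_id, Category.id_comp]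
    · intro h
      rw [← h, ← whiskerLeft_comp_assoc, reassoc_of% hii']
  refine ⟨i' ≫ (Over.map f).map a, ⟨?_, (key a).1 ha⟩, fun b hb => ?_⟩
  · show (𝟙 T.left ≫ a.left) ≫ A.hom = x
    rw [Category.id_comp]
    exact Over.w a
  · let b' : T' ⟶ A := Over.homMk b.left hb.1
    have e : b = i' ≫ (Over.map f).map b' := Over.OverMorphism.ext (Category.id_comp _).symm
    rw [e, hau b' ((key b').2 (e ▸ hb.2))]

section Datum

variable (f : ∀ i, X i ⟶ S) (A : ∀ i, Over (X i))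

/-- a scheme over a member of the covering, over the base -/
abbrev str {T : Scheme.{u}} {i : κ} (x : T ⟶ X i) : Over S := Over.mk (x ≫ f i)

/-- a point as a morphism over the base -/
def pt {T : Scheme.{u}} {i : κ} {x : T ⟶ X i} (a : Desc.Lifts (A i) x) :
    str f x ⟶ (Over.map (f i)).obj (A i) :=
  Over.homMk a.1 (by
    show a.1 ≫ (A i).hom ≫ f i = x ≫ f i
    rw [← Category.assoc, a.2])

theorem pt_left {T : Scheme.{u}} {i : κ} {x : T ⟶ X i} (a : Desc.Lifts (A i) x) :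
    (pt f A a).left = a.1 := rfl

variable {f A} (φ₀ : ∀ i, H ⊗ (Over.map (f i)).obj (A i) ⟶ G)

/-- two points classify the same family -/
def SameFam {T : Scheme.{u}} {i j : κ} {x₀ : T ⟶ X i} {x₁ : T ⟶ X j} (a : Desc.Lifts (A i) x₀)
    (b : Desc.Lifts (A j) x₁) : Prop :=
  ∀ (W : Over S) (w : W ⟶ H) (p : W ⟶ str f x₀) (q : W ⟶ str f x₁), p.left = q.left →
    lift w (p ≫ pt f A a) ≫ φ₀ i = lift w (q ≫ pt f A b) ≫ φ₀ j

theorem SameFam.natural {T T' : Scheme.{u}} (g : T' ⟶ T) {i j : κ} {x₀ : T ⟶ X i} {x₁ : T ⟶ X j}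
    {a : Desc.Lifts (A i) x₀} {b : Desc.Lifts (A j) x₁} (hab : SameFam φ₀ a b)
    (a' : Desc.Lifts (A i) (g ≫ x₀)) (b' : Desc.Lifts (A j) (g ≫ x₁)) (ha : a'.1 = g ≫ a.1)
    (hb : b'.1 = g ≫ b.1) : SameFam φ₀ a' b' := by
  intro W w p q hpq
  let g₀ : str f (g ≫ x₀) ⟶ str f x₀ := Over.homMk g (Category.assoc _ _ _).symm
  let g₁ : str f (g ≫ x₁) ⟶ str f x₁ := Over.homMk g (Category.assoc _ _ _).symm
  have k := hab W w (p ≫ g₀) (q ≫ g₁) (congrArg (· ≫ g) hpq)
  have e0 : (p ≫ g₀) ≫ pt f A a = p ≫ pt f A a' := Over.OverMorphism.ext (by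
    show (p.left ≫ g) ≫ a.1 = p.left ≫ a'.1
    rw [ha, Category.assoc])
  have e1 : (q ≫ g₁) ≫ pt f A b = q ≫ pt f A b' := Over.OverMorphism.ext (by
    show (q.left ≫ g) ≫ b.1 = q.left ≫ b'.1
    rw [hb, Category.assoc])
  rwa [e0, e1] at k

theorem SameFam.symm {T : Scheme.{u}} {i j : κ} {x₀ : T ⟶ X i} {x₁ : T ⟶ X j} {a : Desc.Lifts (A i) x₀}
    {b : Desc.Lifts (A j) x₁} (h : SameFam φ₀ a b) : SameFam φ₀ b a :=
  fun W w p q hpq => (h W w q p hpq.symm).symm

theorem SameFam.refl {T : Scheme.{u}} {i : κ} {x : T ⟶ X i} (a : Desc.Lifts (A i) x) : SameFam φ₀ a a :=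
  fun W w p q hpq => by rw [show p = q from Over.OverMorphism.ext hpq]

theorem SameFam.trans {T : Scheme.{u}} {i j k : κ} {x₀ : T ⟶ X i} {x₁ : T ⟶ X j} {x₂ : T ⟶ X k}
    (h₀₁ : x₀ ≫ f i = x₁ ≫ f j) {a : Desc.Lifts (A i) x₀} {b : Desc.Lifts (A j) x₁} {c : Desc.Lifts (A k) x₂}
    (hab : SameFam φ₀ a b) (hbc : SameFam φ₀ b c) : SameFam φ₀ a c := by
  intro W w p q hpq
  let r : W ⟶ str f x₁ := Over.homMk p.left (by
    show p.left ≫ x₁ ≫ f j = W.hom
    rw [← h₀₁]
    exact Over.w p)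
  exact (hab W w p r rfl).trans (hbc W w r q hpq)

variable {υ : ∀ i, Red.bc (f i) H ⊗ A i ⟶ Red.bc (f i) G}
  (hA : ∀ i, AutFam.RepresentsHom (Red.bc (f i) H) (Red.bc (f i) G) (A i) (υ i))
  (hφ₀ : ∀ i, famBC (f i) (φ₀ i) = υ i)

include hA hφ₀

theorem isHomFamily_φ₀ (i : κ) : AutFam.IsHomFamily H G (φ₀ i) :=
  (Groth.Agent.HomRep.isHomFamily_famBC (f i) (φ₀ i)).1 ((hφ₀ i).symm ▸ (hA i).1)

theorem existsUnique_move {T : Scheme.{u}} {i j : κ} (x₀ : T ⟶ X i) (x₁ : T ⟶ X j) (h : x₀ ≫ f i = x₁ ≫ f j)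
    (a : Desc.Lifts (A i) x₀) : ∃! b : Desc.Lifts (A j) x₁, SameFam φ₀ a b := by
  let e : str f x₁ ⟶ str f x₀ := Over.homMk (𝟙 T) (by
    show 𝟙 T ≫ x₀ ≫ f i = x₁ ≫ f j
    rw [Category.id_comp, h])
  obtain ⟨b, ⟨hb1, hb2⟩, hbu⟩ := existsUnique_pt (f j) (hA j) (hφ₀ j) (str f x₁) x₁ rfl
    ((H ◁ (e ≫ pt f A a)) ≫ φ₀ i) (isHomFamily_res' (isHomFamily_φ₀ φ₀ hA hφ₀ i) _)
  refine ⟨⟨b.left, hb1⟩, fun W w p q hpq => ?_, fun b' hb' => ?_⟩
  · have hp : p = q ≫ e := Over.OverMorphism.ext (hpq.trans (Category.comp_id _).symm)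
    have hq : pt f A ⟨b.left, hb1⟩ = b := Over.OverMorphism.ext rfl
    rw [hp, hq, Category.assoc, ← lift_whiskerLeft_assoc w q b, hb2, lift_whiskerLeft_assoc]
  · refine Subtype.ext ?_
    show b'.1 = b.left
    refine congrArg (fun k : str f x₁ ⟶ (Over.map (f j)).obj (A j) => k.left) (hbu (pt f A b') ⟨b'.2, ?_⟩)
    have h2 := hb' (H ⊗ str f x₁) (fst _ _) (snd _ _ ≫ e) (snd _ _) (Category.comp_id _)
    rw [Category.assoc, ← lift_whiskerLeft_assoc (fst H (str f x₁)) (snd H (str f x₁)) (e ≫ pt f A a),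
      ← lift_whiskerLeft_assoc (fst H (str f x₁)) (snd H (str f x₁)) (pt f A b'), lift_fst_snd,
      Category.id_comp, Category.id_comp] at h2
    exact h2.symm

/-- the descent datum of the local representing objects -/
def datum : Desc.SchDDFam f where
  obj := A
  φ T i j x₀ x₁ h :=
    { toFun := fun a => (existsUnique_move φ₀ hA hφ₀ x₀ x₁ h a).choose
      invFun := fun a => (existsUnique_move φ₀ hA hφ₀ x₁ x₀ h.symm a).choose
      left_inv := fun a => ((existsUnique_move φ₀ hA hφ₀ x₁ x₀ h.symm _).choose_spec.2 a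
        (SameFam.symm φ₀ (existsUnique_move φ₀ hA hφ₀ x₀ x₁ h a).choose_spec.1)).symm
      right_inv := fun a => ((existsUnique_move φ₀ hA hφ₀ x₀ x₁ h _).choose_spec.2 a
        (SameFam.symm φ₀ (existsUnique_move φ₀ hA hφ₀ x₁ x₀ h.symm a).choose_spec.1)).symm }
  φ_natural T T' g i j x₀ x₁ h y₀ y₁ hy₀ hy₁ h' v v' hv' := by
    subst hy₀ hy₁
    exact (congrArg Subtype.val ((existsUnique_move φ₀ hA hφ₀ (g ≫ x₀) (g ≫ x₁) h' v').choose_spec.2
      ⟨g ≫ (existsUnique_move φ₀ hA hφ₀ x₀ x₁ h v).choose.1,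
        by rw [Category.assoc, (existsUnique_move φ₀ hA hφ₀ x₀ x₁ h v).choose.2]⟩
      (SameFam.natural φ₀ g (existsUnique_move φ₀ hA hφ₀ x₀ x₁ h v).choose_spec.1 v' _ hv' rfl))).symm
  φ_self T i x v := ((existsUnique_move φ₀ hA hφ₀ x x rfl v).choose_spec.2 v (SameFam.refl φ₀ v)).symm
  φ_comp T i j k x₀ x₁ x₂ h₀₁ h₁₂ v := (existsUnique_move φ₀ hA hφ₀ x₀ x₂ (h₀₁.trans h₁₂) v).choose_spec.2 _
    (SameFam.trans φ₀ h₀₁ (existsUnique_move φ₀ hA hφ₀ x₀ x₁ h₀₁ v).choose_spec.1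
      (existsUnique_move φ₀ hA hφ₀ x₁ x₂ h₁₂ _).choose_spec.1)

variable {U : Over S} (e : (Desc.toDDFam f).obj U ≅ datum φ₀ hA hφ₀)

/-- the component of the comparison -/
def ei (i : κ) : pullback (f i) U.hom ⟶ (A i).left := (Desc.SchDDFam.Hom.hom e.hom i).left

/-- the inverse component of the comparison -/
def ei' (i : κ) : (A i).left ⟶ pullback (f i) U.hom := (Desc.SchDDFam.Hom.hom e.inv i).left

theorem ei_hom (i : κ) : ei φ₀ hA hφ₀ e i ≫ (A i).hom = pullback.fst _ _ :=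
  Over.w (Desc.SchDDFam.Hom.hom e.hom i)

theorem ei'_fst (i : κ) : ei' φ₀ hA hφ₀ e i ≫ pullback.fst _ _ = (A i).hom :=
  Over.w (Desc.SchDDFam.Hom.hom e.inv i)

theorem ei'_ei (i : κ) : ei' φ₀ hA hφ₀ e i ≫ ei φ₀ hA hφ₀ e i = 𝟙 _ :=
  congrArg (fun m : datum φ₀ hA hφ₀ ⟶ datum φ₀ hA hφ₀ => (Desc.SchDDFam.Hom.hom m i).left) e.inv_hom_id

theorem ei_ei' (i : κ) : ei φ₀ hA hφ₀ e i ≫ ei' φ₀ hA hφ₀ e i = 𝟙 _ :=
  congrArg (fun m : (Desc.toDDFam f).obj U ⟶ (Desc.toDDFam f).obj U => (Desc.SchDDFam.Hom.hom m i).left)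
    e.hom_inv_id

/-- points over the covering with the same image classify the same family -/
theorem sameFam_of_snd {T : Scheme.{u}} {i j : κ} (p : T ⟶ pullback (f i) U.hom) (q : T ⟶ pullback (f j) U.hom)
    (hpq : p ≫ pullback.snd _ _ = q ≫ pullback.snd _ _) (a : Desc.Lifts (A i) (p ≫ pullback.fst _ _))
    (b : Desc.Lifts (A j) (q ≫ pullback.fst _ _)) (ha : a.1 = p ≫ ei φ₀ hA hφ₀ e i)
    (hb : b.1 = q ≫ ei φ₀ hA hφ₀ e j) : SameFam φ₀ a b := by
  have h : (p ≫ pullback.fst (f i) U.hom) ≫ f i = (q ≫ pullback.fst (f j) U.hom) ≫ f j := by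
    simp only [Category.assoc, pullback.condition]
    rw [reassoc_of% hpq]
  let v : Desc.Lifts (((Desc.toDDFam f).obj U).obj i) (p ≫ pullback.fst _ _) := ⟨p, rfl⟩
  have hcomm := e.hom.comm _ _ h v a ha
  have hq : (((Desc.toDDFam f).obj U).φ _ _ h v).1 = q := by
    apply pullback.hom_ext
    · exact pullback.lift_fst _ _ _
    · exact (pullback.lift_snd _ _ _).trans hpq
  rw [hq] at hcomm
  have hb' : (existsUnique_move φ₀ hA hφ₀ _ _ h a).choose = b := Subtype.ext (hcomm.trans hb.symm)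
  exact hb' ▸ (existsUnique_move φ₀ hA hφ₀ _ _ h a).choose_spec.1

/-- points classifying the same family have the same image -/
theorem snd_of_sameFam {T : Scheme.{u}} {i j : κ} {x₀ : T ⟶ X i} {x₁ : T ⟶ X j} (h : x₀ ≫ f i = x₁ ≫ f j)
    (a : Desc.Lifts (A i) x₀) (b : Desc.Lifts (A j) x₁) (hab : SameFam φ₀ a b) :
    (a.1 ≫ ei' φ₀ hA hφ₀ e i) ≫ pullback.snd _ _ = (b.1 ≫ ei' φ₀ hA hφ₀ e j) ≫ pullback.snd _ _ := by
  let w : Desc.Lifts (((Desc.toDDFam f).obj U).obj i) x₀ := ⟨a.1 ≫ ei' φ₀ hA hφ₀ e i, by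
    rw [Category.assoc]
    exact (congrArg (a.1 ≫ ·) (ei'_fst φ₀ hA hφ₀ e i)).trans a.2⟩
  have hcomm := e.inv.comm x₀ x₁ h a w rfl
  have hb : ((datum φ₀ hA hφ₀).φ x₀ x₁ h a).1 = b.1 :=
    congrArg Subtype.val ((existsUnique_move φ₀ hA hφ₀ x₀ x₁ h a).choose_spec.2 b hab).symm
  rw [hb] at hcomm
  exact (pullback.lift_snd _ _ _).symm.trans (congrArg (· ≫ pullback.snd (f j) U.hom) hcomm)

variable (hf : Presieve.ofArrows X f ∈ Scheme.fpqcPrecoverage S)

include e hf

theorem exists_universal : ∃ u : H ⊗ U ⟶ G, AutFam.RepresentsHom H G U u := by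
  let P : κ → Over S := fun i => Over.mk (pullback.snd (f i) U.hom ≫ U.hom)
  let c : ∀ i, P i ⟶ U := fun i => Over.homMk (pullback.snd (f i) U.hom) rfl
  have hc : Presieve.ofArrows (fun i => (P i).left) (fun i => (c i).left) ∈ Scheme.fpqcPrecoverage U.left :=
    Groth.Agent.SchDescent.pullback_cover_mem hf U
  let b : ∀ i, P i ⟶ (Over.map (f i)).obj (A i) := fun i => Over.homMk (ei φ₀ hA hφ₀ e i) (by
    show ei φ₀ hA hφ₀ e i ≫ (A i).hom ≫ f i = pullback.snd (f i) U.hom ≫ U.hom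
    rw [← Category.assoc, ei_hom, pullback.condition])
  obtain ⟨u, hu, -⟩ := existsUnique_glue_prod c hc (fun i => (H ◁ b i) ≫ φ₀ i) (fun i j W w p q hpq => by
    rw [lift_whiskerLeft_assoc, lift_whiskerLeft_assoc]
    have hpq' : p.left ≫ pullback.snd _ _ = q.left ≫ pullback.snd _ _ := congrArg CommaMorphism.left hpq
    let a : Desc.Lifts (A i) (p.left ≫ pullback.fst _ _) :=
      ⟨p.left ≫ ei φ₀ hA hφ₀ e i, by rw [Category.assoc, ei_hom]⟩
    let a' : Desc.Lifts (A j) (q.left ≫ pullback.fst _ _) :=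
      ⟨q.left ≫ ei φ₀ hA hφ₀ e j, by rw [Category.assoc, ei_hom]⟩
    let p' : W ⟶ str f (p.left ≫ pullback.fst (f i) U.hom) := Over.homMk (𝟙 W.left) (by
      show 𝟙 W.left ≫ (p.left ≫ pullback.fst (f i) U.hom) ≫ f i = W.hom
      rw [Category.id_comp, Category.assoc, pullback.condition]
      exact Over.w p)
    let q' : W ⟶ str f (q.left ≫ pullback.fst (f j) U.hom) := Over.homMk (𝟙 W.left) (by
      show 𝟙 W.left ≫ (q.left ≫ pullback.fst (f j) U.hom) ≫ f j = W.hom
      rw [Category.id_comp, Category.assoc, pullback.condition]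
      exact Over.w q)
    have k := sameFam_of_snd φ₀ hA hφ₀ e p.left q.left hpq' a a' rfl rfl W w p' q' rfl
    rw [show p' ≫ pt f A a = p ≫ b i from Over.OverMorphism.ext (Category.id_comp _),
      show q' ≫ pt f A a' = q ≫ b j from Over.OverMorphism.ext (Category.id_comp _)] at k
    exact k)
  have hufam : AutFam.IsHomFamily H G u := isHomFamily_of_cover c hc fun i => by
    rw [hu]; exact isHomFamily_res' (isHomFamily_φ₀ φ₀ hA hφ₀ i) _
  refine ⟨u, hufam, fun T φ hφ => ?_⟩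
  let Q : κ → Over S := fun i => Over.mk (pullback.snd (f i) T.hom ≫ T.hom)
  let d : ∀ i, Q i ⟶ T := fun i => Over.homMk (pullback.snd (f i) T.hom) rfl
  have hd : Presieve.ofArrows (fun i => (Q i).left) (fun i => (d i).left) ∈ Scheme.fpqcPrecoverage T.left :=
    Groth.Agent.SchDescent.pullback_cover_mem hf T
  choose a ha hau using fun i => existsUnique_pt (f i) (hA i) (hφ₀ i) (Q i) (pullback.fst (f i) T.hom)
    pullback.condition ((H ◁ d i) ≫ φ) (isHomFamily_res' hφ _)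
  let k : ∀ i, Q i ⟶ P i := fun i => Over.homMk ((a i).left ≫ ei' φ₀ hA hφ₀ e i) (by
    show ((a i).left ≫ ei' φ₀ hA hφ₀ e i) ≫ pullback.snd (f i) U.hom ≫ U.hom = pullback.snd (f i) T.hom ≫ T.hom
    rw [← pullback.condition (f := f i) (g := U.hom), ← pullback.condition (f := f i) (g := T.hom),
      ← (ha i).1]
    simp only [Category.assoc]
    congr 1
    rw [← Category.assoc, ei'_fst])
  have hkb : ∀ i, k i ≫ b i = a i := fun i => Over.OverMorphism.ext (by
    show ((a i).left ≫ ei' φ₀ hA hφ₀ e i) ≫ ei φ₀ hA hφ₀ e i = (a i).left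
    rw [Category.assoc, ei'_ei]
    exact Category.comp_id _)
  have hcompat : ∀ i j, pullback.fst (d i).left (d j).left ≫ (k i ≫ c i).left =
      pullback.snd (d i).left (d j).left ≫ (k j ≫ c j).left := by
    intro i j
    let π₀ := pullback.fst (d i).left (d j).left
    let π₁ := pullback.snd (d i).left (d j).left
    have hπ : π₀ ≫ pullback.snd (f i) T.hom = π₁ ≫ pullback.snd (f j) T.hom := pullback.condition
    have h : (π₀ ≫ pullback.fst (f i) T.hom) ≫ f i = (π₁ ≫ pullback.fst (f j) T.hom) ≫ f j := by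
      simp only [Category.assoc, pullback.condition]
      rw [reassoc_of% hπ]
    let v : Desc.Lifts (A i) (π₀ ≫ pullback.fst (f i) T.hom) :=
      ⟨π₀ ≫ (a i).left, by rw [Category.assoc, (ha i).1]⟩
    let v' : Desc.Lifts (A j) (π₁ ≫ pullback.fst (f j) T.hom) :=
      ⟨π₁ ≫ (a j).left, by rw [Category.assoc, (ha j).1]⟩
    have hv : SameFam φ₀ v v' := fun W w p q hpq => by
      let p' : W ⟶ Q i := Over.homMk (p.left ≫ π₀) (by
        refine Eq.trans ?_ (Over.w p)
        show (p.left ≫ π₀) ≫ pullback.snd (f i) T.hom ≫ T.hom = p.left ≫ (π₀ ≫ pullback.fst (f i) T.hom) ≫ f i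
        simp only [Category.assoc, pullback.condition])
      let q' : W ⟶ Q j := Over.homMk (q.left ≫ π₁) (by
        refine Eq.trans ?_ (Over.w q)
        show (q.left ≫ π₁) ≫ pullback.snd (f j) T.hom ≫ T.hom = q.left ≫ (π₁ ≫ pullback.fst (f j) T.hom) ≫ f j
        simp only [Category.assoc, pullback.condition])
      have e0 : p ≫ pt f A v = p' ≫ a i := Over.OverMorphism.ext (Category.assoc _ _ _).symm
      have e1 : q ≫ pt f A v' = q' ≫ a j := Over.OverMorphism.ext (Category.assoc _ _ _).symm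
      have hd' : p' ≫ d i = q' ≫ d j := Over.OverMorphism.ext (by
        show (p.left ≫ π₀) ≫ pullback.snd (f i) T.hom = (q.left ≫ π₁) ≫ pullback.snd (f j) T.hom
        rw [hpq, Category.assoc, Category.assoc, hπ])
      rw [e0, e1, ← lift_whiskerLeft_assoc, (ha i).2, ← lift_whiskerLeft_assoc w q', (ha j).2,
        lift_whiskerLeft_assoc, lift_whiskerLeft_assoc, hd']
    have := snd_of_sameFam φ₀ hA hφ₀ e h v v' hv
    simp only [v, v', Category.assoc] at this
    simpa [k, c, π₀, π₁] using this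
  obtain ⟨y, hy, hyu⟩ := Groth.Agent.SchDescent.existsUnique_glue hd _ hcompat
  have hyw : y ≫ U.hom = T.hom := Groth.Agent.SchDescent.hom_ext_cover hd fun i => by
    rw [reassoc_of% (hy i)]
    exact (Over.w (k i ≫ c i)).trans (Over.w (d i)).symm
  let a₀ : T ⟶ U := Over.homMk y hyw
  have hda : ∀ i, d i ≫ a₀ = k i ≫ c i := fun i => Over.OverMorphism.ext (hy i)
  refine ⟨a₀, ?_, fun a' ha' => ?_⟩
  · refine (existsUnique_glue_prod d hd (fun i => (H ◁ d i) ≫ φ) ?_).unique (fun i => ?_) (fun i => rfl)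
    · intro i j W w p q hpq
      rw [lift_whiskerLeft_assoc, lift_whiskerLeft_assoc, hpq]
    · rw [← whiskerLeft_comp_assoc, hda, whiskerLeft_comp_assoc, hu, ← whiskerLeft_comp_assoc, hkb, (ha i).2]
  · apply Over.OverMorphism.ext
    refine hyu a'.left fun i => ?_
    let k' : Q i ⟶ P i := Over.homMk (pullback.lift (pullback.fst (f i) T.hom) (pullback.snd (f i) T.hom ≫ a'.left)
      (by rw [Category.assoc, Over.w a', pullback.condition])) (by
        show pullback.lift _ _ _ ≫ pullback.snd (f i) U.hom ≫ U.hom = pullback.snd (f i) T.hom ≫ T.hom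
        rw [pullback.lift_snd_assoc, Category.assoc, Over.w a'])
    have hk'c : k' ≫ c i = d i ≫ a' := Over.OverMorphism.ext (pullback.lift_snd _ _ _)
    have hkk : k' ≫ b i = a i := hau i (k' ≫ b i) ⟨by
      show (k'.left ≫ ei φ₀ hA hφ₀ e i) ≫ (A i).hom = _
      rw [Category.assoc, ei_hom]
      exact pullback.lift_fst _ _ _, by
      rw [whiskerLeft_comp_assoc, ← hu, ← whiskerLeft_comp_assoc, hk'c, whiskerLeft_comp_assoc, ha']⟩
    have hk : k' = k i := Over.OverMorphism.ext (by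
      have := congrArg (fun m : Q i ⟶ (Over.map (f i)).obj (A i) => m.left ≫ ei' φ₀ hA hφ₀ e i) hkk
      refine Eq.trans ?_ this
      show k'.left = (k'.left ≫ ei φ₀ hA hφ₀ e i) ≫ ei' φ₀ hA hφ₀ e i
      rw [Category.assoc, ei_ei']
      exact (Category.comp_id _).symm)
    show (d i).left ≫ a'.left = (k i ≫ c i).left
    rw [← hk, hk'c]
    rfl

end Datum

/-- **Representability of homomorphisms descends along fpqc coverings.** -/
theorem exists_representsHom_of_fpqc (f : ∀ i, X i ⟶ S)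
    (hf : Presieve.ofArrows X f ∈ Scheme.fpqcPrecoverage S) (A : ∀ i, Over (X i))
    (υ : ∀ i, Red.bc (f i) H ⊗ A i ⟶ Red.bc (f i) G)
    (hA : ∀ i, AutFam.RepresentsHom (Red.bc (f i) H) (Red.bc (f i) G) (A i) (υ i))
    (hqa : ∀ i, MoreMor.IsIndQuasiAffineHom (A i).hom) :
    ∃ (D : Over S) (u : H ⊗ D ⟶ G), AutFam.RepresentsHom H G D u := by
  choose φ₀ hφ₀ using fun i => (Groth.Agent.HomRep.famBC_bijective (f i) H G (A i)).2 (υ i)
  obtain ⟨U, ⟨e⟩⟩ := Groth.Agent.SchDescent.effective_of_indQA f hf (datum φ₀ hA hφ₀) hqa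
  exact ⟨U, exists_universal φ₀ hA hφ₀ e hf⟩

end Groth.Agent.HomDiag.Fpqc
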