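import Groth.Agent.HomDiag.Rep
import Groth.Agent.HomDiag.DescentFpqc
import Groth.Agent.MTDescent.Epi
import Groth.Agent.QA.IndQAComp
import Groth.Agent.MTBridge.ChartsAll

/-!
# Duals of commutative twisted constant groups are of multiplicative type
-/

set_option autoImplicit false
set_option linter.style.haveILetI false
set_option linter.unusedSectionVars false
set_option backward.isDefEq.respectTransparency false
set_option maxHeartbeats 1000000
set_option synthInstance.maxHeartbeats 400000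

universe u

open CategoryTheory Limits MonoidalCategory CartesianMonoidalCategory AlgebraicGeometry
open scoped CategoryTheory.Obj MonObj

noncomputable section

namespace Groth.Agent.HomDiag

variable {S : Scheme.{u}}

/-- the group structure of a diagonalisable group over the integers -/
local instance (priority := high) diagGrp' (M : Type) [AddCommGroup M] :
    GrpObj (Red.diag (ULift.{u} ℤ) M) :=
  (Groth.Agent.MTBridge.specGrp (ULift.{u} ℤ) (ZA.{u} M)).grp

theorem isMonHom_of_mul {A B : Over S} [GrpObj A] [GrpObj B] (e : A ⟶ B)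
    (h : ∀ (X : Over S) (a b : X ⟶ A), (a * b) ≫ e = (a ≫ e) * (b ≫ e)) : IsMonHom e := by
  refine ⟨?_, ?_⟩
  · have h1 : (1 : 𝟙_ (Over S) ⟶ A) ≫ e = 1 := by
      have h2 := h _ (1 : 𝟙_ (Over S) ⟶ A) 1
      rw [one_mul] at h2
      exact mul_eq_left.1 h2.symm
    rwa [Hom.one_def, Hom.one_def, toUnit_unit, Category.id_comp, Category.id_comp] at h1
  · have h1 := h (A ⊗ A) (fst A A) (snd A A)
    rw [Hom.mul_def, Hom.mul_def, lift_fst_snd, Category.id_comp] at h1
    rw [h1, ← lift_map, lift_fst_snd, Category.id_comp]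

variable {M : Type} [AddCommGroup M]

theorem chi_mul {X : Over S} (a b : X ⟶ Red.DS S M) (m : M) :
    (a * b) ≫ Red.chi S m = (a ≫ Red.chi S m) * (b ≫ Red.chi S m) :=
  ch_ext fun k => by simp only [Red.chi, ch_mul, ch_DSmap]

theorem chi_add {X : Over S} (a : X ⟶ Red.DS S M) (m n : M) :
    a ≫ Red.chi S (m + n) = (a ≫ Red.chi S m) * (a ≫ Red.chi S n) :=
  ch_ext fun k => by
    simp only [Red.chi, ch_mul, ch_DSmap, ← map_mul, ← ofAdd_add]
    congr 2
    exact smul_add k.toAdd m n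

theorem ch_chi {X : Over S} (a : X ⟶ Red.DS S M) (m : M) :
    ch (a ≫ Red.chi S m) (Multiplicative.ofAdd 1) = ch a (Multiplicative.ofAdd m) := by
  rw [Red.chi, ch_DSmap]
  congr 2
  exact one_zsmul m

omit [AddCommGroup M] in
theorem eq_of_pieces {G : Over S} {X : Over S} (g : X ⟶ TwC.const S M) (a b : X ⟶ G)
    (h : ∀ (m : M) (W : Over S) (w : W ⟶ X), w ≫ g = toUnit W ≫ TwC.pt S M m → w ≫ a = w ≫ b) : a = b := by
  apply Over.OverMorphism.ext
  refine Scheme.Cover.hom_ext ((sigmaOpenCover (fun _ : M => S)).pullback₁ g.left) _ _ fun m => ?_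
  let W : Over S := Over.mk (pullback.fst g.left (Sigma.ι (fun _ : M => S) m) ≫ X.hom)
  let w : W ⟶ X := Over.homMk (pullback.fst g.left (Sigma.ι (fun _ : M => S) m)) rfl
  have hw : w ≫ g = toUnit W ≫ TwC.pt S M m := by
    apply Over.OverMorphism.ext
    show pullback.fst g.left (Sigma.ι (fun _ : M => S) m) ≫ g.left = (toUnit W).left ≫ Sigma.ι (fun _ : M => S) m
    rw [pullback.condition]
    congr 1
    have h2 : pullback.snd g.left (Sigma.ι (fun _ : M => S) m) =
        pullback.fst g.left (Sigma.ι (fun _ : M => S) m) ≫ X.hom := by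
      rw [← Over.w g, ← Category.assoc, pullback.condition, Category.assoc]
      show _ = _ ≫ Sigma.ι (fun _ : M => S) m ≫ Sigma.desc (fun _ => 𝟙 S)
      rw [Sigma.ι_desc, Category.comp_id]
    exact h2
  exact congrArg CommaMorphism.left (h m W w hw)

omit [AddCommGroup M] in
theorem pt_injective [Nonempty S] {m n : M} (h : TwC.pt S M m = TwC.pt S M n) : m = n := by
  by_contra hne
  obtain ⟨s⟩ := ‹Nonempty S›
  have := congrArg (fun k : 𝟙_ (Over S) ⟶ TwC.const S M => k.left s) h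
  exact Set.disjoint_iff.1
    (TopologicalSpace.Opens.coe_disjoint.2 (disjoint_opensRange_sigmaι (fun _ : M => S) m n hne))
    ⟨⟨s, rfl⟩, ⟨s, this.symm⟩⟩

variable {R : Over S} [GrpObj R]

/-- **The dual of a constant group is diagonalisable.** -/
theorem exists_representsHom_const (e : R ≅ TwC.const S M)
    (he : ∀ m n : M, (TwC.pt S M m ≫ e.inv) * (TwC.pt S M n ≫ e.inv) = TwC.pt S M (m + n) ≫ e.inv) :
    ∃ υ : R ⊗ Red.DS S M ⟶ Red.Gm S, AutFam.RepresentsHom R (Red.Gm S) (Red.DS S M) υ ∧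
      ∀ (X : Over S) (x : X ⟶ R) (a b : X ⟶ Red.DS S M),
        lift x (a * b) ≫ υ = (lift x a ≫ υ) * (lift x b ≫ υ) := by
  let C := TwC.const S M
  obtain ⟨υ₁, hυ₁⟩ := exists_glue (H := Red.DS S M) (G := Red.Gm S) (T := C)
    (sigmaOpenCover (fun _ : M => S) : C.left.OpenCover)
    (fun m => fst _ _ ≫ Red.chi S m) (fun i j X x a b hab => by
      rw [lift_fst_assoc, lift_fst_assoc]
      by_cases hX : IsEmpty X.left
      · refine Over.OverMorphism.ext ?_
        exact (isInitialOfIsEmpty (X := X.left)).hom_ext _ _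
      · obtain ⟨x₀⟩ := not_isEmpty_iff.1 hX
        have : i = j := by
          by_contra hne
          have := congrArg (fun k : X ⟶ C => k.left x₀) hab
          exact Set.disjoint_iff.1 (TopologicalSpace.Opens.coe_disjoint.2
            (disjoint_opensRange_sigmaι (fun _ : M => S) i j hne)) ⟨⟨a.left x₀, rfl⟩, ⟨b.left x₀, this.symm⟩⟩
        subst this
        rfl)
  obtain ⟨υ, hυ⟩ : ∃ υ : R ⊗ Red.DS S M ⟶ Red.Gm S, υ = lift (snd _ _) (fst _ _ ≫ e.hom) ≫ υ₁ := ⟨_, rfl⟩
  have hval : ∀ (W : Over S) (m : M) (t : W ⟶ Red.DS S M),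
      lift (toUnit W ≫ TwC.pt S M m ≫ e.inv) t ≫ υ = t ≫ Red.chi S m := by
    intro W m t
    let k : 𝟙_ (Over S) ⟶ Groth.Agent.HomRep.piece (T := C) (sigmaOpenCover (fun _ : M => S)) m :=
      Over.homMk (𝟙 S) (by
        show 𝟙 S ≫ Sigma.ι (fun _ : M => S) m ≫ Sigma.desc (fun _ => 𝟙 S) = 𝟙 S
        rw [Sigma.ι_desc, Category.comp_id])
    have h1 : TwC.pt S M m = k ≫ Groth.Agent.HomRep.pieceMap (T := C) (sigmaOpenCover (fun _ : M => S)) m :=
      Over.OverMorphism.ext (Category.id_comp _).symm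
    simp only [hυ, comp_lift_assoc, lift_snd, lift_fst_assoc, Category.assoc, Iso.inv_hom_id, Category.comp_id]
    rw [h1, ← Category.assoc (toUnit W), ← lift_whiskerLeft_assoc, hυ₁, lift_fst_assoc]
  have hg : ∀ {W : Over S} {x : W ⟶ R} {m : M}, x ≫ e.hom = toUnit W ≫ TwC.pt S M m →
      x = toUnit W ≫ TwC.pt S M m ≫ e.inv := fun {W x m} h => by
    rw [← Category.assoc, ← h, Category.assoc, e.hom_inv_id, Category.comp_id]
  have hfam : AutFam.IsHomFamily R (Red.Gm S) υ := by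
    intro X g₁ g₂ t
    refine eq_of_pieces (g₁ ≫ e.hom) _ _ fun m W w hw => ?_
    refine eq_of_pieces (w ≫ g₂ ≫ e.hom) _ _ fun n V v hv => ?_
    rw [← Category.assoc v w, ← Category.assoc v w, MonObj.comp_mul, comp_lift_assoc, comp_lift_assoc,
      comp_lift_assoc, MonObj.comp_mul]
    rw [← Category.assoc] at hw
    have e₁ : (v ≫ w) ≫ g₁ = toUnit V ≫ TwC.pt S M m ≫ e.inv := by
      rw [Category.assoc, hg hw, ← Category.assoc, toUnit_unique (v ≫ toUnit W) (toUnit V)]
    have e₂ : (v ≫ w) ≫ g₂ = toUnit V ≫ TwC.pt S M n ≫ e.inv := hg (by simpa only [Category.assoc] using hv)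
    rw [e₁, e₂, ← MonObj.comp_mul, he, hval, hval, hval, chi_add]
  refine ⟨υ, ⟨hfam, fun T φ hφ => ?_⟩, fun X x a b => ?_⟩
  · let u : M → (T ⟶ Red.Gm S) := fun m => lift (toUnit T ≫ TwC.pt S M m ≫ e.inv) (𝟙 T) ≫ φ
    have hu : ∀ m n, u (m + n) = u m * u n := fun m n => by
      show lift _ _ ≫ φ = _
      rw [← he, MonObj.comp_mul]
      exact hφ T _ _ _
    let χ : Multiplicative M →* Γ(T.left, ⊤) :=
      { toFun := fun m => ch (u m.toAdd) (Multiplicative.ofAdd 1)
        map_one' := by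
          have h0 : u 0 = 1 := by
            have h := hu 0 0
            rw [add_zero] at h
            exact mul_eq_left.1 h.symm
          show ch (u 0) (Multiplicative.ofAdd 1) = 1
          rw [h0, ch_one]
        map_mul' := fun m n => by
          show ch (u (m.toAdd + n.toAdd)) _ = _
          rw [hu, ch_mul] }
    obtain ⟨a, ha⟩ := exists_ch (S := S) χ
    have hau : ∀ m, a ≫ Red.chi S m = u m := by
      intro m
      refine ch_ext fun k => ?_
      have h : ch (a ≫ Red.chi S m) = ch (u m) := MonoidHom.ext_mint (by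
        rw [ch_chi, ha]
        rfl)
      rw [h]
    refine ⟨a, eq_of_pieces (fst R T ≫ e.hom) _ _ fun m W w hw => ?_, fun b hb => ?_⟩
    · have e₁ : w ≫ fst R T = toUnit W ≫ TwC.pt S M m ≫ e.inv := hg (by rw [Category.assoc]; exact hw)
      have hw' : w = lift (toUnit W ≫ TwC.pt S M m ≫ e.inv) (w ≫ snd R T) := by
        apply CartesianMonoidalCategory.hom_ext
        · rw [lift_fst, e₁]
        · rw [lift_snd]
      rw [hw', lift_whiskerLeft_assoc, hval, Category.assoc (w ≫ snd R T) a, hau]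
      show (w ≫ snd R T) ≫ lift _ _ ≫ φ = _
      rw [comp_lift_assoc, Category.comp_id, ← Category.assoc (w ≫ snd R T),
        toUnit_unique ((w ≫ snd R T) ≫ toUnit T) (toUnit W)]
    · refine ch_ext fun m => ?_
      rw [ha, ← ofAdd_toAdd m, ← ch_chi b m.toAdd]
      show ch (b ≫ Red.chi S m.toAdd) _ = ch (u m.toAdd) _
      refine congrArg (fun k => ch k _) ?_
      dsimp only at hb
      show _ = lift _ _ ≫ φ
      rw [← hb, lift_whiskerLeft_assoc, Category.id_comp, hval]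
  · refine eq_of_pieces (x ≫ e.hom) _ _ fun m W w hw => ?_
    rw [← Category.assoc] at hw
    rw [MonObj.comp_mul, comp_lift_assoc, comp_lift_assoc, comp_lift_assoc, MonObj.comp_mul, hg hw,
      hval, hval, hval, chi_mul]

open Groth.Agent.MTBridge (toBC toBC_mul bcDS)
open Groth.Agent.HomRep (famBC)

/-- base change of a representing object with its multiplicative family -/
theorem exists_bc_mul {H D : Over S} [GrpObj H] [GrpObj D] {υ : H ⊗ D ⟶ Red.Gm S}
    (hA : AutFam.RepresentsHom H (Red.Gm S) D υ)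
    (hmul : ∀ (X : Over S) (h : X ⟶ H) (a b : X ⟶ D), lift h (a * b) ≫ υ = (lift h a ≫ υ) * (lift h b ≫ υ))
    {S' : Scheme.{u}} (f : S' ⟶ S) :
    ∃ υb : Red.bc f H ⊗ Red.bc f D ⟶ Red.bc f (Red.Gm S),
      AutFam.RepresentsHom (Red.bc f H) (Red.bc f (Red.Gm S)) (Red.bc f D) υb ∧
      ∀ (X : Over S') (x : X ⟶ Red.bc f H) (a b : X ⟶ Red.bc f D),
        lift x (a * b) ≫ υb = (lift x a ≫ υb) * (lift x b ≫ υb) := by
  let ε := ((Over.mapPullbackAdj f).homEquiv (Red.bc f D) D).symm (𝟙 _)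
  refine ⟨famBC f ((H ◁ ε) ≫ υ),
    ⟨(Groth.Agent.HomRep.isHomFamily_famBC f _).2 (isHomFamily_res H (Red.Gm S) hA.1 ε), fun T φ hφ => ?_⟩, ?_⟩
  · obtain ⟨φ₀, rfl⟩ := (Groth.Agent.HomRep.famBC_bijective f H (Red.Gm S) T).2 φ
    obtain ⟨v, hv, huv⟩ := hA.2 _ φ₀ ((Groth.Agent.HomRep.isHomFamily_famBC f φ₀).mp hφ)
    have key : ∀ w : T ⟶ Red.bc f D, (Red.bc f H ◁ w) ≫ famBC f ((H ◁ ε) ≫ υ) = famBC f φ₀ ↔
        (H ◁ ((Over.mapPullbackAdj f).homEquiv T D).symm w) ≫ υ = φ₀ := by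
      intro w
      rw [Groth.Agent.HomRep.famBC_whiskerLeft, (Groth.Agent.HomRep.famBC_bijective f H (Red.Gm S) T).1.eq_iff,
        ← whiskerLeft_comp_assoc,
        show (Over.map f).map w ≫ ε = ((Over.mapPullbackAdj f).homEquiv T D).symm w from
          ((Over.mapPullbackAdj f).homEquiv_naturality_left_symm w (𝟙 _)).symm.trans
            (congrArg _ (Category.comp_id w))]
    refine ⟨(Over.mapPullbackAdj f).homEquiv T D v, (key _).mpr (by rw [Equiv.symm_apply_apply]; exact hv),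
      fun w hw ↦ ?_⟩
    rw [← huv _ ((key w).mp hw), Equiv.apply_symm_apply]
  · intro X x a b
    have hadj : ∀ c : X ⟶ Red.bc f D, (Over.map f).map c ≫ ε = ((Over.mapPullbackAdj f).homEquiv X D).symm c :=
      fun c => ((Over.mapPullbackAdj f).homEquiv_naturality_left_symm c (𝟙 _)).symm.trans
        (congrArg _ (Category.comp_id c))
    obtain ⟨a₀, rfl⟩ := ((Over.mapPullbackAdj f).homEquiv X D).surjective a
    obtain ⟨b₀, rfl⟩ := ((Over.mapPullbackAdj f).homEquiv X D).surjective b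
    have hab : (Over.mapPullbackAdj f).homEquiv X D a₀ * (Over.mapPullbackAdj f).homEquiv X D b₀ =
        (Over.mapPullbackAdj f).homEquiv X D (a₀ * b₀) := (toBC_mul f a₀ b₀).symm
    rw [hab]
    simp only [Groth.Agent.HomRep.lift_famBC, lift_whiskerLeft_assoc, hadj, Equiv.symm_apply_apply, hmul,
      toBC_mul]

theorem bc_comm {R : Over S} [GrpObj R] (hcomm : ∀ (X : Over S) (a b : X ⟶ R), a * b = b * a) {S' : Scheme.{u}}
    (f : S' ⟶ S) {X : Over S'} (a b : X ⟶ Red.bc f R) : a * b = b * a := by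
  obtain ⟨a₀, rfl⟩ := exists_toBC_eq f a
  obtain ⟨b₀, rfl⟩ := exists_toBC_eq f b
  rw [← toBC_mul, ← toBC_mul, hcomm]

variable (R)

/-- the dual of a commutative twisted constant group is of multiplicative type -/
theorem exists_dual_multType
    (hR : TwC.Locally S TwC.Topology.fpqc (fun S' f => ∃ (M : Type) (_ : Group M) (e : Red.bc f R ≅ TwC.const S' M),
      TwC.IsConstGrp M (Red.bc f R) e))
    (hcomm : ∀ (X : Over S) (a b : X ⟶ R), a * b = b * a) :
    ∃ (D : Over S) (_ : GrpObj D) (υ : R ⊗ D ⟶ Red.Gm S), AutFam.RepresentsHom R (Red.Gm S) D υ ∧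
      (∀ (X : Over S) (r : X ⟶ R) (a b : X ⟶ D), lift r (a * b) ≫ υ = (lift r a ≫ υ) * (lift r b ≫ υ)) ∧
      TwC.Locally S TwC.Topology.fpqc (fun S' f => ∃ (M : Type) (_ : AddCommGroup M),
        Nonempty (Grp.mk (Red.bc f D) ≅ Grp.mk (Red.DS S' M))) := by
  obtain ⟨S', π, hflat, hsurj, hcov, hloc⟩ := hR
  haveI := hflat
  haveI := hsurj
  choose U hU M hM e he using hloc
  let f : ∀ s : S', (U s : Scheme.{u}) ⟶ S := fun s => (U s).ι ≫ π
  have hlocal : ∀ s : S', ∃ (A : Type) (_ : AddCommGroup A)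
      (υ : Red.bc (f s) R ⊗ Red.DS (U s) A ⟶ Red.bc (f s) (Red.Gm S)),
      AutFam.RepresentsHom (Red.bc (f s) R) (Red.bc (f s) (Red.Gm S)) (Red.DS (U s) A) υ ∧
        ∀ (X : Over (U s : Scheme.{u})) (x : X ⟶ Red.bc (f s) R) (a b : X ⟶ Red.DS (U s) A),
          lift x (a * b) ≫ υ = (lift x a ≫ υ) * (lift x b ≫ υ) := by
    intro s
    letI := hM s
    haveI : Nonempty (U s : Scheme.{u}) := ⟨⟨s, hU s⟩⟩
    have hc : ∀ m n : M s, m * n = n * m := by
      intro m n
      apply pt_injective (S := (U s : Scheme.{u}))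
      rw [← cancel_mono (e s).inv, ← he s m n, ← he s n m]
      exact bc_comm hcomm (f s) _ _
    letI : CommGroup (M s) := { hM s with mul_comm := hc }
    obtain ⟨υ₀, hυ₀, hm₀⟩ := exists_representsHom_const (S := (U s : Scheme.{u})) (M := Additive (M s))
      (R := Red.bc (f s) R) (e s) (fun m n => he s m n)
    let g : Red.Gm (U s : Scheme.{u}) ≅ Red.bc (f s) (Red.Gm S) := (Grp.forget _).mapIso (bcDS (f s) ℤ).symm
    haveI : IsMonHom g.hom := inferInstanceAs (IsMonHom (bcDS (f s) ℤ).inv.hom.hom)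
    haveI : IsMonHom (Iso.refl (Red.bc (f s) R)).hom := inferInstanceAs (IsMonHom (𝟙 _))
    refine ⟨Additive (M s), inferInstance, _, represents_transport (Iso.refl _) g hυ₀, fun X x a b => ?_⟩
    have hl : ∀ c, lift x c ≫ ((Iso.refl (Red.bc (f s) R)).inv ▷ Red.DS (U s : Scheme.{u}) (Additive (M s))) ≫
        υ₀ ≫ g.hom = (lift x c ≫ υ₀) ≫ g.hom := fun c => by
      rw [lift_whiskerRight_assoc, Iso.refl_inv, Category.comp_id, Category.assoc]
    rw [hl, hl, hl, hm₀, MonObj.mul_comp]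
  choose A hAg υ hυ hυm using hlocal
  let κ := Σ _ : PUnit.{u + 1}, S'
  have hf : Presieve.ofArrows (fun p : κ => (U p.2 : Scheme.{u})) (fun p => f p.2) ∈ Scheme.fpqcPrecoverage S :=
    Precoverage.comp_mem_coverings (fun _ : PUnit.{u + 1} => π)
      (Groth.Agent.SchDescent.mem_fpqc_singleton (Groth.Agent.MTDescent.singleton_mem π hcov))
      (fun _ s => (U s).ι)
      (fun _ => Scheme.zariskiPrecoverage_le_fpqcPrecoverage _
        (S'.openCoverOfIsOpenCover U (TopologicalSpace.IsOpenCover.mk (eq_top_iff.2 fun x _ =>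
          TopologicalSpace.Opens.mem_iSup.2 ⟨x, hU x⟩))).mem₀)
  letI : ∀ s, AddCommGroup (A s) := hAg
  obtain ⟨D, u, hD⟩ := Fpqc.exists_representsHom_of_fpqc (H := R) (G := Red.Gm S) (fun p : κ => f p.2) hf
    (fun p => Red.DS (U p.2 : Scheme.{u}) (A p.2)) (fun p => υ p.2) (fun p => hυ p.2) (fun p => by
      haveI := Groth.Agent.MTBridge.isAffineHom_DS (U p.2 : Scheme.{u}) (A p.2)
      intro V hV
      haveI : IsAffine ((Red.DS (U p.2 : Scheme.{u}) (A p.2)).hom ⁻¹ᵁ V : Scheme.{u}) :=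
        (hV.preimage (Red.DS (U p.2 : Scheme.{u}) (A p.2)).hom)
      intro W hW
      haveI : CompactSpace W.toScheme := isCompact_iff_compactSpace.mp hW
      exact Scheme.IsQuasiAffine.of_isImmersion W.ι)
  obtain ⟨grp, hmul⟩ := exists_grpObj hD
  refine ⟨D, grp, u, hD, hmul, S', π, hflat, hsurj, hcov, fun s => ⟨U s, hU s, A s, hAg s, ?_⟩⟩
  obtain ⟨υb, hb, hbm⟩ := exists_bc_mul hD hmul (f s)
  obtain ⟨j, hj⟩ := exists_iso_of_represents hb (hυ s)
  haveI : IsMonHom j.hom := isMonHom_of_mul j.hom fun X a b => by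
    have hj' : ∀ (c : X ⟶ Red.bc (f s) D), (Red.bc (f s) R ◁ (c ≫ j.hom)) ≫ υ s =
        lift (fst _ _) (snd _ _ ≫ c) ≫ υb := fun c => by
      rw [whiskerLeft_comp_assoc, hj, ← Category.id_comp ((Red.bc (f s) R ◁ c) ≫ υb), ← lift_fst_snd,
        lift_whiskerLeft_assoc]
    refine ((hυ s).2 X _ (isHomFamily_res _ _ (hυ s).1 ((a * b) ≫ j.hom))).unique rfl ?_
    show (_ ◁ ((a ≫ j.hom) * (b ≫ j.hom))) ≫ υ s = (_ ◁ ((a * b) ≫ j.hom)) ≫ υ s
    rw [hj' (a * b), MonObj.comp_mul, hbm, ← hj' a, ← hj' b,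
      ← Category.id_comp ((Red.bc (f s) R ◁ (a ≫ j.hom * b ≫ j.hom)) ≫ υ s), ← lift_fst_snd,
      lift_whiskerLeft_assoc, MonObj.comp_mul, hυm]
    congr 1 <;> rw [← lift_whiskerLeft_assoc, lift_fst_snd, Category.id_comp]
  exact ⟨Grp.mkIso' j⟩

end Groth.Agent.HomDiag
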