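import Groth.Agent.HomDiag.Points
import Groth.Prelude.Def_AutFam

/-!
# Families of homomorphisms of diagonalisable groups are locally given by maps of characters
-/

set_option autoImplicit false
set_option linter.style.haveILetI false
set_option backward.isDefEq.respectTransparency false
set_option maxHeartbeats 1000000
set_option synthInstance.maxHeartbeats 400000

universe u

open CategoryTheory Limits MonoidalCategory CartesianMonoidalCategory AlgebraicGeometry
open scoped CategoryTheory.Obj MonObj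

noncomputable section

namespace Groth.Agent.HomDiag

variable {S : Scheme.{u}} {M N : Type} [AddCommGroup M] [AddCommGroup N]

theorem isHomFamily_DSmap (θ : N →+ M) (T : Over S) :
    AutFam.IsHomFamily (Red.DS S M) (Red.DS S N) (fst (Red.DS S M) T ≫ Red.DSmap S θ) := by
  intro X a b t
  rw [lift_fst_assoc, lift_fst_assoc, lift_fst_assoc]
  refine ch_ext fun n => ?_
  rw [ch_DSmap, ch_mul, ch_mul, ch_DSmap, ch_DSmap]

theorem isHomFamily_restrict {G G' : Over S} [GrpObj G] [GrpObj G'] {T T' : Over S} {φ : G ⊗ T ⟶ G'}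
    (h : AutFam.IsHomFamily G G' φ) (v : T' ⟶ T) : AutFam.IsHomFamily G G' ((G ◁ v) ≫ φ) := fun X a b t => by
  rw [lift_whiskerLeft_assoc, lift_whiskerLeft_assoc, lift_whiskerLeft_assoc]
  exact h X a b (t ≫ v)

variable {T : Over S}

/-- functions on a diagonalisable group over `T` evaluated at a point -/
def evalPt {X : Over S} (x : X ⟶ Red.DS S M) (t : X ⟶ T) :
    MonoidAlgebra Γ(T.left, ⊤) (Multiplicative M) →+* Γ(X.left, ⊤) :=
  MonoidAlgebra.liftNCRingHom t.left.appTop.hom (ch x) (fun _ _ => Commute.all _ _)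

theorem evalPt_single {X : Over S} (x : X ⟶ Red.DS S M) (t : X ⟶ T) (m : Multiplicative M)
    (a : Γ(T.left, ⊤)) : evalPt x t (MonoidAlgebra.single m a) = t.left.appTop a * ch x m :=
  MonoidAlgebra.liftNC_single _ _ _ _

theorem evalPt_map {T' : Over S} (v : T' ⟶ T) {X : Over S} (x : X ⟶ Red.DS S M) (t : X ⟶ T')
    (z : MonoidAlgebra Γ(T.left, ⊤) (Multiplicative M)) :
    evalPt x (t ≫ v) z = evalPt x t (MonoidAlgebra.mapRingHom _ v.left.appTop.hom z) := by
  induction z using MonoidAlgebra.induction_linear with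
  | zero => simp
  | add a b ha hb => rw [map_add, map_add, map_add, ha, hb]
  | single m a =>
    rw [MonoidAlgebra.mapRingHom_single, evalPt_single, evalPt_single, Over.comp_left,
      Scheme.Hom.comp_appTop]
    rfl

section Affine

variable [IsAffine T.left]

/-- the universal point over an affine base -/
abbrev univ (M : Type) [AddCommGroup M] (T : Over S) [IsAffine T.left] : Over S :=
  Over.mk (Spec.map (CommRingCat.ofHom (algebraMap Γ(T.left, ⊤) (MonoidAlgebra Γ(T.left, ⊤) (Multiplicative M))))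
    ≫ T.left.isoSpec.inv ≫ T.hom)

/-- its projection -/
abbrev univT (M : Type) [AddCommGroup M] (T : Over S) [IsAffine T.left] : univ M T ⟶ T :=
  Over.homMk (Spec.map (CommRingCat.ofHom (algebraMap Γ(T.left, ⊤) (MonoidAlgebra Γ(T.left, ⊤) (Multiplicative M))))
    ≫ T.left.isoSpec.inv) (Category.assoc _ _ _)

/-- its value on characters -/
abbrev gam (M : Type) [AddCommGroup M] (T : Over S) [IsAffine T.left] :
    MonoidAlgebra Γ(T.left, ⊤) (Multiplicative M) →+* Γ((univ M T).left, ⊤) :=
  (Scheme.ΓSpecIso (CommRingCat.of (MonoidAlgebra Γ(T.left, ⊤) (Multiplicative M)))).inv.hom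

theorem univT_appTop (a : Γ(T.left, ⊤)) :
    (univT M T).left.appTop a = gam M T (MonoidAlgebra.single 1 a) := by
  let A := MonoidAlgebra Γ(T.left, ⊤) (Multiplicative M)
  show (Spec.map (CommRingCat.ofHom (algebraMap Γ(T.left, ⊤) A)) ≫ T.left.isoSpec.inv).appTop a = _
  rw [Scheme.Hom.comp_appTop]
  have h := Scheme.ΓSpecIso_inv_naturality (CommRingCat.ofHom (algebraMap Γ(T.left, ⊤) A))
  have h2 : T.left.isoSpec.inv.appTop = (Scheme.ΓSpecIso Γ(T.left, ⊤)).inv := by
    rw [← cancel_epi T.left.isoSpec.hom.appTop, ← Scheme.Hom.comp_appTop, Iso.inv_hom_id,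
      show T.left.isoSpec.hom = T.left.toSpecΓ from rfl, Scheme.toSpecΓ_appTop, Iso.hom_inv_id]
    simp
  rw [h2]
  exact RingHom.congr_fun (congrArg CommRingCat.Hom.hom h.symm) a

theorem exists_univ : ∃ x₀ : univ M T ⟶ Red.DS S M,
    (∀ z, evalPt x₀ (univT M T) z = gam M T z) ∧
    ∀ {X : Over S} (x : X ⟶ Red.DS S M) (t : X ⟶ T), ∃ a : X ⟶ univ M T,
      a ≫ x₀ = x ∧ a ≫ univT M T = t ∧ ∀ z, a.left.appTop (gam M T z) = evalPt x t z := by
  let A := MonoidAlgebra Γ(T.left, ⊤) (Multiplicative M)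
  obtain ⟨x₀, hx₀⟩ := exists_ch (S := S) (X := univ M T)
    ((gam M T).toMonoidHom.comp (MonoidAlgebra.of Γ(T.left, ⊤) (Multiplicative M)))
  refine ⟨x₀, fun z => ?_, fun {X} x t => ?_⟩
  · induction z using MonoidAlgebra.induction_linear with
    | zero => exact (map_zero _).trans (map_zero _).symm
    | add a b ha hb => exact (map_add _ a b).trans ((congrArg₂ (· + ·) ha hb).trans (map_add _ a b).symm)
    | single m a =>
      rw [evalPt_single, hx₀, univT_appTop]
      show gam M T (MonoidAlgebra.single 1 a) * gam M T (MonoidAlgebra.single m 1) = _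
      rw [← map_mul, MonoidAlgebra.single_mul_single, one_mul, mul_one]
  · let al : X.left ⟶ Spec (CommRingCat.of A) := X.left.toSpecΓ ≫ Spec.map (CommRingCat.ofHom (evalPt x t))
    have hal : ∀ z, al.appTop (gam M T z) = evalPt x t z := by
      intro z
      have h : (Scheme.ΓSpecIso (CommRingCat.of A)).inv ≫ al.appTop = CommRingCat.ofHom (evalPt x t) := by
        rw [Scheme.Hom.comp_appTop, ← Scheme.ΓSpecIso_inv_naturality_assoc, Scheme.toSpecΓ_appTop,
          Iso.inv_hom_id, Category.comp_id]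
      exact RingHom.congr_fun (congrArg CommRingCat.Hom.hom h) z
    have hl : al ≫ (univT M T).left = t.left := by
      refine ext_of_isAffine (CommRingCat.hom_ext (RingHom.ext fun a => ?_))
      rw [Scheme.Hom.comp_appTop]
      show al.appTop ((univT M T).left.appTop a) = _
      rw [univT_appTop, hal, evalPt_single, map_one, mul_one]
    let a : X ⟶ univ M T := Over.homMk al (by
      show al ≫ (univ M T).hom = X.hom
      rw [← Over.w t, ← hl, Category.assoc]
      exact congrArg (al ≫ ·) (Over.w (univT M T)).symm)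
    refine ⟨a, ?_, Over.OverMorphism.ext hl, hal⟩
    refine ch_ext fun m => ?_
    rw [ch_comp, hx₀]
    show al.appTop (gam M T (MonoidAlgebra.single m 1)) = ch x m
    rw [hal, evalPt_single, map_one, one_mul]

end Affine

theorem coeff_mul_inl_inr {K L : Type*} [CommRing K] [CommGroup L] (g h : MonoidAlgebra K L) (m m' : L) :
    (MonoidAlgebra.mapDomainAlgHom K K (MonoidHom.inl L L) g *
      MonoidAlgebra.mapDomainAlgHom K K (MonoidHom.inr L L) h).coeff (m, m') =
      g.coeff m * h.coeff m' := by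
  classical
  induction g using MonoidAlgebra.induction_linear with
  | zero => simp
  | add a b ha hb =>
    rw [map_add, add_mul, MonoidAlgebra.coeff_add, MonoidAlgebra.coeff_add, Finsupp.add_apply,
      Finsupp.add_apply, ha, hb, add_mul]
  | single a r =>
    induction h using MonoidAlgebra.induction_linear with
    | zero => simp
    | add c d hc hd =>
      rw [map_add, mul_add, MonoidAlgebra.coeff_add, MonoidAlgebra.coeff_add, Finsupp.add_apply,
        Finsupp.add_apply, hc, hd, mul_add]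
    | single c t =>
      rw [show MonoidAlgebra.mapDomainAlgHom K K (MonoidHom.inl L L) (MonoidAlgebra.single a r) =
          MonoidAlgebra.single (a, 1) r from MonoidAlgebra.mapDomain_single,
        show MonoidAlgebra.mapDomainAlgHom K K (MonoidHom.inr L L) (MonoidAlgebra.single c t) =
          MonoidAlgebra.single (1, c) t from MonoidAlgebra.mapDomain_single,
        MonoidAlgebra.single_mul_single, Prod.mk_mul_mk, mul_one, one_mul]
      simp [Finsupp.single_apply]
      split_ifs <;> simp_all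

theorem coeff_diag {K L : Type*} [CommRing K] [CommGroup L] [DecidableEq L] (g : MonoidAlgebra K L) (m m' : L) :
    (MonoidAlgebra.mapDomainAlgHom K K ((MonoidHom.id L).prod (MonoidHom.id L)) g).coeff (m, m') =
      if m = m' then g.coeff m else 0 := by
  induction g using MonoidAlgebra.induction_linear with
  | zero => simp
  | add a b ha hb =>
    rw [map_add, MonoidAlgebra.coeff_add, MonoidAlgebra.coeff_add, Finsupp.add_apply, Finsupp.add_apply,
      ha, hb]
    split_ifs <;> simp
  | single a r =>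
    rw [show MonoidAlgebra.mapDomainAlgHom K K ((MonoidHom.id L).prod (MonoidHom.id L)) (MonoidAlgebra.single a r) =
        MonoidAlgebra.single (a, a) r from MonoidAlgebra.mapDomain_single]
    simp [Finsupp.single_apply]
    by_cases h1 : m = m' <;> by_cases h2 : a = m <;> by_cases h3 : a = m' <;> simp_all

open scoped Classical in
/-- **A family over an affine base is given by orthogonal idempotents.** -/
theorem exists_fn [IsAffine T.left] {φ : Red.DS S M ⊗ T ⟶ Red.DS S N}
    (hφ : AutFam.IsHomFamily (Red.DS S M) (Red.DS S N) φ) :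
    ∃ f : Multiplicative N →* MonoidAlgebra Γ(T.left, ⊤) (Multiplicative M),
      (∀ {X : Over S} (x : X ⟶ Red.DS S M) (t : X ⟶ T) (n : Multiplicative N),
        ch (lift x t ≫ φ) n = evalPt x t (f n)) ∧
      ∀ n m m', (f n).coeff m * (f n).coeff m' = if m = m' then (f n).coeff m else 0 := by
  let R := Γ(T.left, ⊤)
  let M' := Multiplicative M
  obtain ⟨x₀, hx₀, huniv⟩ := exists_univ (M := M) (T := T)
  let e := Scheme.ΓSpecIso (CommRingCat.of (MonoidAlgebra R M'))
  let f : Multiplicative N →* MonoidAlgebra R M' := e.hom.hom.toMonoidHom.comp (ch (lift x₀ (univT M T) ≫ φ))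
  have hev : ∀ {X : Over S} (x : X ⟶ Red.DS S M) (t : X ⟶ T) (n : Multiplicative N),
      ch (lift x t ≫ φ) n = evalPt x t (f n) := by
    intro X x t n
    obtain ⟨a, h1, h2, h3⟩ := huniv x t
    rw [← h3, ← h1, ← h2, ← comp_lift_assoc, ch_comp]
    refine congrArg (fun z => a.left.appTop z) ?_
    exact (RingHom.congr_fun (congrArg CommRingCat.Hom.hom e.hom_inv_id) _).symm
  refine ⟨f, hev, fun n m m' => ?_⟩
  classical
  let A2 := MonoidAlgebra R (M' × M')
  let X2 : Over S := Over.mk (Spec.map (CommRingCat.ofHom (algebraMap R A2)) ≫ T.left.isoSpec.inv ≫ T.hom)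
  let gm2 : A2 →+* Γ(X2.left, ⊤) := (Scheme.ΓSpecIso (CommRingCat.of A2)).inv.hom
  let J : (M' →* M' × M') → (MonoidAlgebra R M' →+* A2) := fun ψ =>
    (MonoidAlgebra.mapDomainAlgHom R R ψ).toRingHom
  let t2 : X2 ⟶ T := Over.homMk (Spec.map (CommRingCat.ofHom (algebraMap R A2)) ≫ T.left.isoSpec.inv)
    (Category.assoc _ _ _)
  have ha : ∀ ψ, ∃ a : X2 ⟶ univ M T, a ≫ univT M T = t2 ∧ ∀ z, a.left.appTop (gam M T z) = gm2 (J ψ z) := by
    intro ψ
    have hc : Spec.map (CommRingCat.ofHom (J ψ)) ≫ Spec.map (CommRingCat.ofHom (algebraMap R (MonoidAlgebra R M'))) =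
        Spec.map (CommRingCat.ofHom (algebraMap R A2)) := by
      rw [← Spec.map_comp, ← CommRingCat.ofHom_comp]
      congr 2
      exact (MonoidAlgebra.mapDomainAlgHom R R ψ).comp_algebraMap
    refine ⟨Over.homMk (Spec.map (CommRingCat.ofHom (J ψ))) ?_, Over.OverMorphism.ext ?_, fun z => ?_⟩
    · show Spec.map _ ≫ Spec.map _ ≫ T.left.isoSpec.inv ≫ T.hom = _
      rw [← Category.assoc, hc]
      rfl
    · show Spec.map _ ≫ Spec.map _ ≫ T.left.isoSpec.inv = Spec.map _ ≫ T.left.isoSpec.inv
      rw [← Category.assoc, hc]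
    · exact (RingHom.congr_fun (congrArg CommRingCat.Hom.hom
        (Scheme.ΓSpecIso_inv_naturality (CommRingCat.ofHom (J ψ)))) z).symm
  choose a hat hag using ha
  have hval : ∀ ψ n, ch (lift (a ψ ≫ x₀) t2 ≫ φ) n = gm2 (J ψ (f n)) := by
    intro ψ n
    rw [← hat ψ, ← comp_lift_assoc, ch_comp, hev x₀ (univT M T) n, hx₀, hag]
  have hprod : (a (MonoidHom.inl M' M') ≫ x₀) * (a (MonoidHom.inr M' M') ≫ x₀) =
      a ((MonoidHom.id M').prod (MonoidHom.id M')) ≫ x₀ := by
    refine ch_ext fun k => ?_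
    rw [ch_mul, ch_comp, ch_comp, ch_comp]
    have hk : ch x₀ k = gam M T (MonoidAlgebra.single k 1) := by
      rw [← hx₀ (MonoidAlgebra.single k 1), evalPt_single, map_one, one_mul]
    rw [hk, hag, hag, hag, ← map_mul]
    congr 1
    show MonoidAlgebra.mapDomain (MonoidHom.inl M' M') (MonoidAlgebra.single k (1 : R)) *
        MonoidAlgebra.mapDomain (MonoidHom.inr M' M') (MonoidAlgebra.single k (1 : R)) =
      MonoidAlgebra.mapDomain ((MonoidHom.id M').prod (MonoidHom.id M')) (MonoidAlgebra.single k (1 : R))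
    simp [MonoidAlgebra.mapDomain_single, MonoidAlgebra.single_mul_single]
  have hinj : Function.Injective gm2 :=
    Function.LeftInverse.injective (g := (Scheme.ΓSpecIso (CommRingCat.of A2)).hom.hom) fun z =>
      RingHom.congr_fun (congrArg CommRingCat.Hom.hom (Scheme.ΓSpecIso (CommRingCat.of A2)).inv_hom_id) z
  have h1 := congrArg (fun w => ch w n) (hφ _ (a (MonoidHom.inl M' M') ≫ x₀) (a (MonoidHom.inr M' M') ≫ x₀) t2)
  simp only [ch_mul, hprod, hval, ← map_mul] at h1
  have h2 := congrArg (fun z : A2 => z.coeff (m, m')) (hinj h1)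
  change (MonoidAlgebra.mapDomainAlgHom R R ((MonoidHom.id M').prod (MonoidHom.id M')) (f n) : A2).coeff (m, m') =
    ((MonoidAlgebra.mapDomainAlgHom R R (MonoidHom.inl M' M') (f n) : A2) *
      MonoidAlgebra.mapDomainAlgHom R R (MonoidHom.inr M' M') (f n)).coeff (m, m') at h2
  rw [coeff_diag, coeff_mul_inl_inr] at h2
  exact h2.symm

/-- **Families of homomorphisms of diagonalisable groups are locally maps of characters.** -/
theorem exists_locally_DSmap [AddGroup.FG N] {φ : Red.DS S M ⊗ T ⟶ Red.DS S N}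
    (hφ : AutFam.IsHomFamily (Red.DS S M) (Red.DS S N) φ) (p : T.left) :
    ∃ (T' : Over S) (v : T' ⟶ T), IsOpenImmersion v.left ∧ p ∈ Set.range v.left ∧
      ∃ θ : N →+ M, (Red.DS S M ◁ v) ≫ φ = fst _ _ ≫ Red.DSmap S θ := by
  obtain ⟨W, hW, hpW, -⟩ := exists_isAffineOpen_mem_and_subset (U := (⊤ : T.left.Opens)) (x := p) trivial
  let T₁ : Over S := Over.mk (W.ι ≫ T.hom)
  let v₁ : T₁ ⟶ T := Over.homMk W.ι rfl
  haveI : IsAffine T₁.left := hW
  obtain ⟨f, hev, horth⟩ := exists_fn (isHomFamily_restrict hφ v₁)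
  let q : T₁.left := ⟨p, hpW⟩
  classical
  let g := T₁.left.presheaf.germ ⊤ q trivial
  have hstep : ∀ n, ∃ m, IsUnit (g ((f n).coeff m)) := by
    intro n
    let ε : MonoidAlgebra Γ(T₁.left, ⊤) (Multiplicative M) →+* T₁.left.presheaf.stalk q :=
      MonoidAlgebra.liftNCRingHom g.hom 1 (fun _ _ => Commute.all _ _)
    have hu : IsUnit (ε (f n)) := ((Group.isUnit n).map f).map ε
    have key : ∀ z : MonoidAlgebra Γ(T₁.left, ⊤) (Multiplicative M), ε z = z.coeff.sum fun _ r => g r := by
      intro z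
      induction z using MonoidAlgebra.induction_linear with
      | zero => simp
      | add a b ha hb => rw [map_add, ha, hb, MonoidAlgebra.coeff_add, Finsupp.sum_add_index] <;> simp
      | single l r =>
        refine Eq.trans ?_ (show g r = _ by rw [MonoidAlgebra.coeff_single, Finsupp.sum_single_index]; exact map_zero _)
        exact (MonoidAlgebra.liftNC_single _ _ _ _).trans (mul_one _)
    have hs : ε (f n) = ∑ m ∈ (f n).coeff.support, g ((f n).coeff m) := key (f n)
    rw [hs] at hu
    by_contra hc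
    push Not at hc
    refine (?_ : ¬ IsUnit _) hu
    exact (IsLocalRing.mem_maximalIdeal _).1 (Submodule.sum_mem _ fun m _ =>
      (IsLocalRing.mem_maximalIdeal _).2 (hc m))
  choose mu hmu using hstep
  obtain ⟨G, hG⟩ := AddGroup.fg_iff.1 ‹AddGroup.FG N›
  obtain ⟨hGt, hGfin⟩ := hG
  let e := ∏ n ∈ hGfin.toFinset, (f (Multiplicative.ofAdd n)).coeff (mu (Multiplicative.ofAdd n))
  have hqe : q ∈ T₁.left.basicOpen e := by
    rw [Scheme.mem_basicOpen_top, map_prod]
    exact IsUnit.prod_iff.2 fun n _ => hmu _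
  let T' : Over S := Over.mk ((T₁.left.basicOpen e).ι ≫ T₁.hom)
  let v₂ : T' ⟶ T₁ := Over.homMk (T₁.left.basicOpen e).ι rfl
  let r := v₂.left.appTop.hom
  have hre : IsUnit (r e) := by
    refine RingedSpace.isUnit_of_isUnit_germ T'.left.toRingedSpace ⊤ _ fun x hx => ?_
    have h1 : IsUnit (T₁.left.presheaf.germ ⊤ (v₂.left x) trivial e) := (Scheme.mem_basicOpen_top _ _ _).1 x.2
    exact (congrArg IsUnit (Scheme.Hom.germ_stalkMap_apply v₂.left ⊤ x trivial e)).mp
      (h1.map (v₂.left.stalkMap x).hom)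
  haveI hnt : Nontrivial Γ(T'.left, ⊤) := by
    haveI : Nonempty (⊤ : T'.left.Opens) := ⟨⟨⟨q, hqe⟩, trivial⟩⟩
    infer_instance
  let F : Multiplicative N →* MonoidAlgebra Γ(T'.left, ⊤) (Multiplicative M) :=
    (MonoidAlgebra.mapRingHom _ r).toMonoidHom.comp f
  have hall : ∀ n : N, ∃ m, F (Multiplicative.ofAdd n) = MonoidAlgebra.single m 1 := by
    intro n
    have hn : n ∈ AddSubgroup.closure G := hGt ▸ AddSubgroup.mem_top n
    induction hn using AddSubgroup.closure_induction with
    | mem n hn =>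
      refine ⟨mu (Multiplicative.ofAdd n), MonoidAlgebra.coeff_injective (Finsupp.ext fun l => ?_)⟩
      let c := fun k => (f (Multiplicative.ofAdd n)).coeff k
      have hu : IsUnit (r (c (mu (Multiplicative.ofAdd n)))) := by
        refine isUnit_of_dvd_unit (map_dvd r ?_) hre
        exact Finset.dvd_prod_of_mem _ (hGfin.mem_toFinset.2 hn)
      have h1 : r (c (mu (Multiplicative.ofAdd n))) = 1 := by
        refine hu.mul_left_cancel ?_
        rw [← map_mul, mul_one, horth, if_pos rfl]
      show r (c l) = _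
      rw [MonoidAlgebra.coeff_single, Finsupp.single_apply]
      split_ifs with hl
      · rw [← hl]; exact h1
      · refine hu.mul_left_cancel ?_
        rw [← map_mul, horth, if_neg hl, map_zero, mul_zero]
    | zero => exact ⟨1, by rw [ofAdd_zero, map_one, MonoidAlgebra.one_def]⟩
    | add a b _ _ ha hb =>
      obtain ⟨x, hx⟩ := ha
      obtain ⟨y, hy⟩ := hb
      exact ⟨x * y, by rw [ofAdd_add, map_mul, hx, hy, MonoidAlgebra.single_mul_single, one_mul]⟩
    | neg a _ ha =>
      obtain ⟨x, hx⟩ := ha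
      refine ⟨x⁻¹, ?_⟩
      have h : F (Multiplicative.ofAdd (-a)) * F (Multiplicative.ofAdd a) = 1 := by
        rw [← map_mul, ← ofAdd_add, neg_add_cancel, ofAdd_zero, map_one]
      calc F (Multiplicative.ofAdd (-a)) = F (Multiplicative.ofAdd (-a)) *
            (F (Multiplicative.ofAdd a) * MonoidAlgebra.single x⁻¹ 1) := by
              rw [hx, MonoidAlgebra.single_mul_single, mul_inv_cancel, one_mul, ← MonoidAlgebra.one_def, mul_one]
        _ = _ := by rw [← mul_assoc, h, one_mul]
  choose θ hθ using hall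
  let θ' : N →+ M := AddMonoidHom.mk' (fun n => (θ n).toAdd) fun a b => by
    rw [← toAdd_mul]
    congr 1
    refine MonoidAlgebra.single_left_injective (R := Γ(T'.left, ⊤)) one_ne_zero ?_
    show MonoidAlgebra.single _ 1 = MonoidAlgebra.single _ 1
    rw [← hθ, ofAdd_add, map_mul, hθ, hθ, MonoidAlgebra.single_mul_single, one_mul]
  refine ⟨T', v₂ ≫ v₁, inferInstanceAs (IsOpenImmersion ((T₁.left.basicOpen e).ι ≫ W.ι)),
    ⟨⟨q, hqe⟩, rfl⟩, θ', ?_⟩
  refine ch_ext fun n => ?_
  rw [ch_DSmap, ← Category.id_comp ((Red.DS S M ◁ (v₂ ≫ v₁)) ≫ φ), ← lift_fst_snd,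
    lift_whiskerLeft_assoc, ← Category.assoc (snd _ _), ← lift_whiskerLeft_assoc, hev, evalPt_map]
  show evalPt _ _ (F (Multiplicative.ofAdd n.toAdd)) = _
  rw [hθ, evalPt_single, map_one, one_mul]
  rfl

/-- the map of characters is determined over a non-empty base -/
theorem DSmap_inj [Nonempty T.left] {θ θ' : N →+ M}
    (h : fst (Red.DS S M) T ≫ Red.DSmap S θ = fst (Red.DS S M) T ≫ Red.DSmap S θ') : θ = θ' := by
  obtain ⟨p⟩ := ‹Nonempty T.left›
  obtain ⟨W, hW, hpW, -⟩ := exists_isAffineOpen_mem_and_subset (U := (⊤ : T.left.Opens)) (x := p) trivial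
  let T₁ : Over S := Over.mk (W.ι ≫ T.hom)
  let v₁ : T₁ ⟶ T := Over.homMk W.ι rfl
  haveI : IsAffine T₁.left := hW
  haveI hnt : Nontrivial Γ(T₁.left, ⊤) := by
    haveI : Nonempty (⊤ : T₁.left.Opens) := ⟨⟨⟨p, hpW⟩, trivial⟩⟩
    infer_instance
  obtain ⟨x₀, hx₀, -⟩ := exists_univ (M := M) (T := T₁)
  have hinj : Function.Injective (gam M T₁) :=
    Function.LeftInverse.injective
      (g := (Scheme.ΓSpecIso (CommRingCat.of (MonoidAlgebra Γ(T₁.left, ⊤) (Multiplicative M)))).hom.hom) fun z =>
      RingHom.congr_fun (congrArg CommRingCat.Hom.hom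
        (Scheme.ΓSpecIso (CommRingCat.of (MonoidAlgebra Γ(T₁.left, ⊤) (Multiplicative M)))).inv_hom_id) z
  ext n
  have h1 := congrArg (fun k => ch (lift x₀ (univT M T₁ ≫ v₁) ≫ k) (Multiplicative.ofAdd n)) h
  simp only [lift_fst_assoc, ch_DSmap, toAdd_ofAdd] at h1
  have hk : ∀ k, ch x₀ k = gam M T₁ (MonoidAlgebra.single k 1) := fun k => by
    rw [← hx₀ (MonoidAlgebra.single k 1), evalPt_single, map_one, one_mul]
  rw [hk, hk] at h1
  exact Multiplicative.ofAdd.injective (MonoidAlgebra.single_left_injective one_ne_zero (hinj h1))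

end Groth.Agent.HomDiag
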