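import Groth.Prelude.Def_Red2
import Groth.Agent.HomRep.FieldHom
import Groth.Agent.MTBridge.CentralFibres

/-!
# Points of diagonalisable groups are characters with values in the units of global functions
-/

set_option autoImplicit false
set_option linter.style.haveILetI false
set_option backward.isDefEq.respectTransparency false
set_option maxHeartbeats 800000
set_option synthInstance.maxHeartbeats 400000

universe u

open CategoryTheory Limits MonoidalCategory CartesianMonoidalCategory AlgebraicGeometry TensorProduct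
  WithConv MonoidAlgebra
open scoped CategoryTheory.Obj MonObj

noncomputable section

namespace Groth.Agent.HomDiag

open Groth.Agent.MTBridge

/-- the group ring over the integers -/
abbrev ZA (M : Type) : Type u := MonoidAlgebra (ULift.{u} ℤ) (Multiplicative M)

theorem zHom_ext {A : Type*} [Semiring A] (f g : ULift.{u} ℤ →+* A) : f = g := by
  have h := RingHom.ext_int (f.comp ULift.ringEquiv.symm.toRingHom) (g.comp ULift.ringEquiv.symm.toRingHom)
  ext x
  exact congrArg (fun k : ℤ →+* A => k x.down) h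

variable {S : Scheme.{u}} {M N : Type} [AddCommGroup M] [AddCommGroup N]

/-- the character group as functions on the group -/
def coord (M : Type) [AddCommGroup M] :
    Multiplicative M →* Γ(Spec (CommRingCat.of (ZA.{u} M)), ⊤) :=
  ((Scheme.ΓSpecIso (CommRingCat.of (ZA.{u} M))).inv.hom.toMonoidHom).comp (MonoidAlgebra.of _ _)

/-- the values of the characters at a point -/
def ch {X : Over S} (x : X ⟶ Red.DS S M) : Multiplicative M →* Γ(X.left, ⊤) :=
  ((x.left ≫ pullback.fst _ _).appTop.hom.toMonoidHom).comp (coord M)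

theorem ch_apply {X : Over S} (x : X ⟶ Red.DS S M) (m : Multiplicative M) :
    ch x m = (x.left ≫ pullback.fst _ _).appTop ((Scheme.ΓSpecIso (CommRingCat.of (ZA.{u} M))).inv
      (MonoidAlgebra.single m 1)) := rfl

theorem ch_comp {X Y : Over S} (a : Y ⟶ X) (x : X ⟶ Red.DS S M) (m : Multiplicative M) :
    ch (a ≫ x) m = a.left.appTop (ch x m) := by
  rw [ch_apply, ch_apply, Over.comp_left, Category.assoc, Scheme.Hom.comp_appTop]
  rfl

/-- the ring map of a point -/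
def ρ {Y : Scheme.{u}} (f : Y ⟶ Spec (CommRingCat.of (ZA.{u} M))) : ZA.{u} M →+* Γ(Y, ⊤) :=
  ((Scheme.ΓSpecIso (CommRingCat.of (ZA.{u} M))).inv ≫ f.appTop).hom

theorem eq_of_ρ {Y : Scheme.{u}} {f g : Y ⟶ Spec (CommRingCat.of (ZA.{u} M))}
    (h : ∀ m : Multiplicative M, ρ f (MonoidAlgebra.single m 1) = ρ g (MonoidAlgebra.single m 1)) :
    f = g := by
  refine ext_of_isAffine ?_
  rw [← cancel_epi (Scheme.ΓSpecIso (CommRingCat.of (ZA.{u} M))).inv]
  exact CommRingCat.hom_ext (MonoidAlgebra.ringHom_ext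
    (fun z => congrArg (fun k : ULift.{u} ℤ →+* Γ(Y, ⊤) => k z)
      (zHom_ext ((ρ f).comp MonoidAlgebra.singleOneRingHom) ((ρ g).comp MonoidAlgebra.singleOneRingHom))) h)

theorem ρ_toSpecΓ {Y : Scheme.{u}} (φ : ZA.{u} M →+* Γ(Y, ⊤)) :
    ρ (Y.toSpecΓ ≫ Spec.map (CommRingCat.ofHom φ)) = φ := by
  rw [ρ, Scheme.Hom.comp_appTop, ← Scheme.ΓSpecIso_inv_naturality_assoc, Scheme.toSpecΓ_appTop,
    Iso.inv_hom_id, Category.comp_id]
  rfl

theorem ch_ext {X : Over S} {x y : X ⟶ Red.DS S M} (h : ∀ m, ch x m = ch y m) : x = y := by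
  apply Over.OverMorphism.ext
  refine pullback.hom_ext (eq_of_ρ h) ?_
  exact (Over.w x).trans (Over.w y).symm

theorem exists_ch {X : Over S} (χ : Multiplicative M →* Γ(X.left, ⊤)) :
    ∃ x : X ⟶ Red.DS S M, ∀ m, ch x m = χ m := by
  let φ : ZA.{u} M →+* Γ(X.left, ⊤) := MonoidAlgebra.liftNCRingHom
    ((Int.castRingHom _).comp ULift.ringEquiv.toRingHom) χ (fun _ _ => Commute.all _ _)
  let f := X.left.toSpecΓ ≫ Spec.map (CommRingCat.ofHom φ)
  refine ⟨Over.homMk (pullback.lift f X.hom (specULiftZIsTerminal.hom_ext _ _)) (pullback.lift_snd _ _ _),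
    fun m => ?_⟩
  rw [ch_apply]
  refine Eq.trans (congrArg (fun g : X.left ⟶ Spec (CommRingCat.of (ZA.{u} M)) =>
    ρ g (MonoidAlgebra.single m 1)) (pullback.lift_fst f X.hom _)) ?_
  rw [show ρ f = φ from ρ_toSpecΓ φ]
  show MonoidAlgebra.liftNC _ _ (MonoidAlgebra.single m 1) = χ m
  rw [MonoidAlgebra.liftNC_single, AddMonoidHom.coe_coe, map_one, one_mul]

theorem ch_DSmap (θ : N →+ M) {X : Over S} (x : X ⟶ Red.DS S M) (n : Multiplicative N) :
    ch (x ≫ Red.DSmap S θ) n = ch x (Multiplicative.ofAdd (θ n.toAdd)) := by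
  rw [ch_apply, ch_apply, Over.comp_left, Category.assoc]
  have h : (Red.DSmap S θ).left ≫ pullback.fst (Red.diag (ULift.{u} ℤ) N).hom
      (Limits.IsTerminal.from specULiftZIsTerminal S) = pullback.fst _ _ ≫ (Red.diagMap (ULift.{u} ℤ) θ).left := by
    simp [Red.DSmap]
  rw [h, ← Category.assoc, Scheme.Hom.comp_appTop]
  show (x.left ≫ pullback.fst _ _).appTop ((Red.diagMap (ULift.{u} ℤ) θ).left.appTop _) = _
  congr 1
  show ((Scheme.ΓSpecIso _).inv ≫ (Spec.map (CommRingCat.ofHom (MonoidAlgebra.mapDomainAlgHom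
    (ULift.{u} ℤ) (ULift.{u} ℤ) (AddMonoidHom.toMultiplicative θ)).toRingHom)).appTop) _ = _
  rw [← Scheme.ΓSpecIso_inv_naturality]
  exact congrArg (fun z : ZA.{u} M => (Scheme.ΓSpecIso (CommRingCat.of (ZA.{u} M))).inv z)
    MonoidAlgebra.mapDomain_single

theorem exists_spMap {Y : Over (Spec (CommRingCat.of (ULift.{u} ℤ)))} [Algebra (ULift.{u} ℤ) Γ(Y.left, ⊤)]
    (p : Y ⟶ (Spec (CommRingCat.of Γ(Y.left, ⊤))).asOver (Spec (CommRingCat.of (ULift.{u} ℤ))))
    (hp : p.left = Y.left.toSpecΓ) (a : Y ⟶ (specGrp (ULift.{u} ℤ) (ZA.{u} M)).X) :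
    ∃ φ : ZA.{u} M →ₐ[ULift.{u} ℤ] Γ(Y.left, ⊤), a = p ≫ spMap φ ∧ φ.toRingHom = ρ a.left := by
  refine ⟨{ ρ a.left with
    commutes' := fun r => RingHom.congr_fun (zHom_ext
      ((ρ a.left).comp (algebraMap (ULift.{u} ℤ) (ZA.{u} M))) (algebraMap (ULift.{u} ℤ) Γ(Y.left, ⊤))) r },
    ?_, rfl⟩
  apply Over.OverMorphism.ext
  refine eq_of_ρ fun m => ?_
  rw [Over.comp_left, hp]
  exact (RingHom.congr_fun (ρ_toSpecΓ (ρ a.left)) _).symm

theorem ρ_mul {Y : Over (Spec (CommRingCat.of (ULift.{u} ℤ)))}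
    (a b : Y ⟶ (specGrp (ULift.{u} ℤ) (ZA.{u} M)).X) (m : Multiplicative M) :
    ρ (a * b).left (MonoidAlgebra.single m 1) =
      ρ a.left (MonoidAlgebra.single m 1) * ρ b.left (MonoidAlgebra.single m 1) := by
  letI : Algebra (ULift.{u} ℤ) Γ(Y.left, ⊤) :=
    ((Int.castRingHom _).comp ULift.ringEquiv.toRingHom).toAlgebra
  let p : Y ⟶ (Spec (CommRingCat.of Γ(Y.left, ⊤))).asOver (Spec (CommRingCat.of (ULift.{u} ℤ))) :=
    Over.homMk Y.left.toSpecΓ (specULiftZIsTerminal.hom_ext _ _)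
  obtain ⟨φ, hx, hφ⟩ := exists_spMap p rfl a
  obtain ⟨ψ, hy, hψ⟩ := exists_spMap p rfl b
  have e : (spMap φ * spMap ψ : Pt (specGrp (ULift.{u} ℤ) (ZA.{u} M)).X Γ(Y.left, ⊤)) =
      spMap (toConv φ * toConv ψ).ofConv :=
    Groth.Agent.HomRep.spMap_mul (R := ULift.{u} ℤ) φ ψ
  have h : a * b = p ≫ (spMap (toConv φ * toConv ψ).ofConv :
      Pt (specGrp (ULift.{u} ℤ) (ZA.{u} M)).X Γ(Y.left, ⊤)) := by
    rw [← e, MonObj.comp_mul, ← hx, ← hy]
  rw [← hφ, ← hψ, h]
  refine (RingHom.congr_fun (ρ_toSpecΓ (toConv φ * toConv ψ).ofConv.toRingHom) _).trans ?_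
  show (toConv φ * toConv ψ).ofConv (MonoidAlgebra.single m 1) = φ _ * ψ _
  rw [AlgHom.convMul_apply]
  simp

theorem ch_toBC {X : Over S}
    (z : (Over.map (Limits.IsTerminal.from specULiftZIsTerminal S)).obj X ⟶ Red.diag (ULift.{u} ℤ) M)
    (m : Multiplicative M) :
    ch (toBC (Limits.IsTerminal.from specULiftZIsTerminal S) z) m = ρ z.left (MonoidAlgebra.single m 1) := by
  have h1 : (toBC (Limits.IsTerminal.from specULiftZIsTerminal S) z).left ≫ pullback.fst _ _ = z.left := by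
    simp [toBC, Over.mapPullbackAdj]
  exact congrArg (fun g : X.left ⟶ Spec (CommRingCat.of (ZA.{u} M)) => ρ g (MonoidAlgebra.single m 1)) h1

theorem exists_toBC_eq {T : Scheme.{u}} (j : T ⟶ S) {X : Over T} {G : Over S} (x : X ⟶ Red.bc j G) :
    ∃ a : (Over.map j).obj X ⟶ G, toBC j a = x :=
  ((Over.mapPullbackAdj j).homEquiv X G).surjective x

theorem ch_mul {X : Over S} (x y : X ⟶ Red.DS S M) (m : Multiplicative M) :
    ch (x * y) m = ch x m * ch y m := by
  obtain ⟨a, ha⟩ := exists_toBC_eq (G := Red.diag (ULift.{u} ℤ) M)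
    (Limits.IsTerminal.from specULiftZIsTerminal S) x
  obtain ⟨b, hb⟩ := exists_toBC_eq (G := Red.diag (ULift.{u} ℤ) M)
    (Limits.IsTerminal.from specULiftZIsTerminal S) y
  letI gZ : GrpObj (Red.diag (ULift.{u} ℤ) M) := (specGrp (ULift.{u} ℤ) (ZA.{u} M)).grp
  have h : x * y = toBC (Limits.IsTerminal.from specULiftZIsTerminal S) (a * b) := by
    rw [toBC_mul, ha, hb]
  rw [h, ← ha, ← hb, ch_toBC, ch_toBC, ch_toBC]
  exact ρ_mul a b m

theorem ch_one {X : Over S} (m : Multiplicative M) : ch (1 : X ⟶ Red.DS S M) m = 1 := by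
  have h := ch_mul (1 : X ⟶ Red.DS S M) 1 m
  rw [one_mul] at h
  have hu : IsUnit (ch (1 : X ⟶ Red.DS S M) m) := (Group.isUnit m).map _
  exact hu.mul_left_cancel (h.symm.trans (mul_one _).symm)

end Groth.Agent.HomDiag
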