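import Groth.Agent.HomDiag.Local
import Groth.Agent.HomRep.HomGlue
import Groth.Prelude.Def_TwC

/-!
# Homomorphisms of diagonalisable groups are represented by the constant scheme of maps of characters
-/

set_option autoImplicit false
set_option linter.style.haveILetI false
set_option backward.isDefEq.respectTransparency false
set_option maxHeartbeats 1000000
set_option synthInstance.maxHeartbeats 400000

universe u

open CategoryTheory Limits MonoidalCategory CartesianMonoidalCategory AlgebraicGeometry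
open scoped CategoryTheory.Obj MonObj

noncomputable section

namespace Groth.Agent.HomDiag

variable {S : Scheme.{u}}

/-- morphisms out of a product glue along open covers of the second factor -/
theorem exists_glue {H G T : Over S} (𝒰 : T.left.OpenCover)
    (φ : ∀ i, H ⊗ Groth.Agent.HomRep.piece 𝒰 i ⟶ G)
    (hφ : ∀ (i j : 𝒰.I₀) (X : Over S) (x : X ⟶ H) (a : X ⟶ Groth.Agent.HomRep.piece 𝒰 i)
      (b : X ⟶ Groth.Agent.HomRep.piece 𝒰 j),
      a ≫ Groth.Agent.HomRep.pieceMap 𝒰 i = b ≫ Groth.Agent.HomRep.pieceMap 𝒰 j →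
        lift x a ≫ φ i = lift x b ≫ φ j) :
    ∃ z : H ⊗ T ⟶ G, ∀ i, (H ◁ Groth.Agent.HomRep.pieceMap 𝒰 i) ≫ z = φ i := by
  let 𝒱 : (H ⊗ T).left.OpenCover := 𝒰.pullback₁ (pullback.snd H.hom T.hom)
  let E : 𝒱.I₀ → Over S := fun i => Over.mk (𝒱.f i ≫ (H ⊗ T).hom)
  let xh : ∀ i, E i ⟶ H := fun i => Over.homMk (𝒱.f i) rfl ≫ fst H T
  let ep : ∀ i, E i ⟶ Groth.Agent.HomRep.piece 𝒰 i := fun i =>
    Over.homMk (pullback.snd (pullback.snd H.hom T.hom) (𝒰.f i)) (by
      show pullback.snd _ _ ≫ 𝒰.f i ≫ T.hom = 𝒱.f i ≫ (H ⊗ T).hom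
      rw [← pullback.condition_assoc]
      exact congrArg (𝒱.f i ≫ ·) (Over.w (snd H T)))
  have hep : ∀ i, ep i ≫ Groth.Agent.HomRep.pieceMap 𝒰 i = Over.homMk (𝒱.f i) rfl ≫ snd H T :=
    fun i => Over.OverMorphism.ext pullback.condition.symm
  have hcompat : ∀ i j : 𝒱.I₀, pullback.fst (𝒱.f i) (𝒱.f j) ≫ (lift (xh i) (ep i) ≫ φ i).left =
      pullback.snd (𝒱.f i) (𝒱.f j) ≫ (lift (xh j) (ep j) ≫ φ j).left := by
    intro i j
    let W : Over S := Over.mk ((pullback.fst (𝒱.f i) (𝒱.f j) ≫ 𝒱.f i) ≫ (H ⊗ T).hom)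
    let a : W ⟶ E i := Over.homMk (pullback.fst _ _) (Category.assoc _ _ _).symm
    let b : W ⟶ E j := Over.homMk (pullback.snd _ _) (by
      show pullback.snd (𝒱.f i) (𝒱.f j) ≫ 𝒱.f j ≫ _ = _
      rw [← pullback.condition_assoc]
      exact (Category.assoc _ _ _).symm)
    have hab : a ≫ (Over.homMk (𝒱.f i) rfl : E i ⟶ H ⊗ T) = b ≫ Over.homMk (𝒱.f j) rfl :=
      Over.OverMorphism.ext pullback.condition
    have hx : a ≫ xh i = b ≫ xh j := by
      show a ≫ _ ≫ fst H T = b ≫ _ ≫ fst H T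
      rw [reassoc_of% hab]
    have h := hφ i j W (a ≫ xh i) (a ≫ ep i) (b ≫ ep j) (by
      rw [Category.assoc, Category.assoc, hep, hep, reassoc_of% hab])
    have h' : a ≫ lift (xh i) (ep i) ≫ φ i = b ≫ lift (xh j) (ep j) ≫ φ j := by
      rw [comp_lift_assoc, comp_lift_assoc, ← hx]
      exact h
    exact congrArg CommaMorphism.left h'
  obtain ⟨g, hg⟩ : ∃ g : (H ⊗ T).left ⟶ G.left, ∀ i, 𝒱.f i ≫ g = (lift (xh i) (ep i) ≫ φ i).left :=
    ⟨𝒱.glueMorphisms _ hcompat, 𝒱.ι_glueMorphisms _ hcompat⟩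
  have hw : g ≫ G.hom = (H ⊗ T).hom := 𝒱.hom_ext _ _ fun i => by
    rw [reassoc_of% (hg i)]
    exact Over.w (lift (xh i) (ep i) ≫ φ i)
  refine ⟨Over.homMk g hw, fun i => ?_⟩
  let l : (H ⊗ Groth.Agent.HomRep.piece 𝒰 i).left ⟶ 𝒱.X i :=
    pullback.lift (H ◁ Groth.Agent.HomRep.pieceMap 𝒰 i).left
      (snd H (Groth.Agent.HomRep.piece 𝒰 i)).left
      (congrArg CommaMorphism.left (whiskerLeft_snd H (Groth.Agent.HomRep.pieceMap 𝒰 i)))
  let l' : H ⊗ Groth.Agent.HomRep.piece 𝒰 i ⟶ E i := Over.homMk l (by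
    show l ≫ 𝒱.f i ≫ _ = _
    rw [← Category.assoc, show l ≫ 𝒱.f i = _ from pullback.lift_fst _ _ _]
    exact Over.w _)
  have e1 : l' ≫ xh i = fst _ _ := by
    have : l' ≫ (Over.homMk (𝒱.f i) rfl : E i ⟶ H ⊗ T) = H ◁ Groth.Agent.HomRep.pieceMap 𝒰 i :=
      Over.OverMorphism.ext (pullback.lift_fst _ _ _)
    show l' ≫ _ ≫ fst H T = _
    rw [reassoc_of% this, whiskerLeft_fst]
  have e2 : l' ≫ ep i = snd _ _ := Over.OverMorphism.ext (pullback.lift_snd _ _ _)
  apply Over.OverMorphism.ext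
  show (H ◁ Groth.Agent.HomRep.pieceMap 𝒰 i).left ≫ g = _
  rw [show (H ◁ Groth.Agent.HomRep.pieceMap 𝒰 i).left = l ≫ 𝒱.f i from (pullback.lift_fst _ _ _).symm,
    Category.assoc, hg]
  have h3 : l' ≫ lift (xh i) (ep i) ≫ φ i = φ i := by
    rw [comp_lift_assoc, e1, e2, lift_fst_snd, Category.id_comp]
  exact congrArg CommaMorphism.left h3

variable {M N : Type} [AddCommGroup M] [AddCommGroup N]

/-- the constant scheme with its universal family of homomorphisms of diagonalisable groups -/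
theorem exists_representsHom_DS [AddGroup.FG N] :
    ∃ υ : Red.DS S M ⊗ TwC.const S (ULift.{u} (N →+ M)) ⟶ Red.DS S N,
      AutFam.RepresentsHom (Red.DS S M) (Red.DS S N) (TwC.const S (ULift.{u} (N →+ M))) υ ∧
      ∀ θ : ULift.{u} (N →+ M), (Red.DS S M ◁ TwC.pt S (ULift.{u} (N →+ M)) θ) ≫ υ =
        fst _ _ ≫ Red.DSmap S θ.down := by
  let I := ULift.{u} (N →+ M)
  let C := TwC.const S I
  let 𝒰 : C.left.OpenCover := sigmaOpenCover (fun _ : I => S)
  obtain ⟨υ, hυ⟩ := exists_glue (H := Red.DS S M) (G := Red.DS S N) 𝒰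
    (fun θ => fst _ _ ≫ Red.DSmap S θ.down) (fun i j X x a b hab => by
      rw [lift_fst_assoc, lift_fst_assoc]
      by_cases hX : IsEmpty X.left
      · refine Over.OverMorphism.ext ?_
        exact (isInitialOfIsEmpty (X := X.left)).hom_ext _ _
      · obtain ⟨x₀⟩ := not_isEmpty_iff.1 hX
        have : i = j := by
          by_contra hne
          have := congrArg (fun k : X ⟶ C => k.left x₀) hab
          exact Set.disjoint_iff.1 (TopologicalSpace.Opens.coe_disjoint.2 (disjoint_opensRange_sigmaι (fun _ : I => S) i j hne))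
            ⟨⟨a.left x₀, rfl⟩, ⟨b.left x₀, this.symm⟩⟩
        subst this
        rfl)
  have hpt : ∀ θ : I, (Red.DS S M ◁ TwC.pt S I θ) ≫ υ = fst _ _ ≫ Red.DSmap S θ.down := by
    intro θ
    have h1 : TwC.pt S I θ = (Over.homMk (𝟙 S) (by
        show 𝟙 S ≫ Sigma.ι (fun _ : I => S) θ ≫ Sigma.desc (fun _ => 𝟙 S) = 𝟙 S
        rw [Sigma.ι_desc, Category.comp_id]) : 𝟙_ (Over S) ⟶ Groth.Agent.HomRep.piece 𝒰 θ) ≫
        Groth.Agent.HomRep.pieceMap 𝒰 θ := Over.OverMorphism.ext (Category.id_comp _).symm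
    rw [h1, whiskerLeft_comp_assoc, hυ, whiskerLeft_fst_assoc]
  have hptT : ∀ (T : Over S) (θ : I),
      (Red.DS S M ◁ (toUnit T ≫ TwC.pt S I θ)) ≫ υ = fst _ _ ≫ Red.DSmap S θ.down := fun T θ => by
    rw [whiskerLeft_comp_assoc, hpt, whiskerLeft_fst_assoc]
  have hlpt : ∀ (W : Over S) (x : W ⟶ Red.DS S M) (θ : I),
      lift x (toUnit W ≫ TwC.pt S I θ) ≫ υ = x ≫ Red.DSmap S θ.down := fun W x θ => by
    rw [← lift_whiskerLeft_assoc, hpt, lift_fst_assoc]
  have hfam : AutFam.IsHomFamily (Red.DS S M) (Red.DS S N) υ := by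
    intro X g₁ g₂ t
    apply Over.OverMorphism.ext
    refine Scheme.Cover.hom_ext ((𝒰.pullback₁ t.left)) _ _ fun θ => ?_
    let W : Over S := Over.mk (pullback.fst t.left (𝒰.f θ) ≫ X.hom)
    let w : W ⟶ X := Over.homMk (pullback.fst t.left (𝒰.f θ)) rfl
    have hw : w ≫ t = toUnit W ≫ TwC.pt S I θ := by
      apply Over.OverMorphism.ext
      show pullback.fst t.left (𝒰.f θ) ≫ t.left = (toUnit W).left ≫ 𝒰.f θ
      rw [pullback.condition]
      congr 1
      have h2 : pullback.snd t.left (𝒰.f θ) = pullback.fst t.left (𝒰.f θ) ≫ X.hom := by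
        rw [← Over.w t, ← Category.assoc, pullback.condition, Category.assoc]
        show _ = _ ≫ Sigma.ι (fun _ : I => S) θ ≫ Sigma.desc (fun _ => 𝟙 S)
        rw [Sigma.ι_desc, Category.comp_id]
      exact h2
    have hl : ∀ g : X ⟶ Red.DS S M, w ≫ lift g t ≫ υ = (w ≫ g) ≫ Red.DSmap S θ.down := by
      intro g
      rw [comp_lift_assoc, hw]
      exact hlpt W (w ≫ g) θ
    have h3 : w ≫ lift (g₁ * g₂) t ≫ υ = w ≫ ((lift g₁ t ≫ υ) * (lift g₂ t ≫ υ)) := by
      rw [MonObj.comp_mul, hl, hl, hl, MonObj.comp_mul]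
      refine ch_ext fun n => ?_
      rw [ch_DSmap, ch_mul, ch_mul, ch_DSmap, ch_DSmap]
    exact congrArg CommaMorphism.left h3
  refine ⟨υ, ⟨hfam, fun T φ hφ => ?_⟩, hpt⟩
  choose T' v hv hp θ hθ using fun p : T.left => exists_locally_DSmap hφ p
  haveI := hv
  let 𝒲 : T.left.OpenCover := Scheme.Cover.mkOfCovers T.left (fun p => (T' p).left) (fun p => (v p).left)
    (fun p => ⟨p, hp p⟩) hv
  have huniq : ∀ {W : Over S} (w : W ⟶ T) (eta : N →+ M),
      (Red.DS S M ◁ w) ≫ φ = fst _ _ ≫ Red.DSmap S eta → ∀ {p : T.left} (z : W ⟶ T' p),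
      z ≫ v p = w → Nonempty W.left → eta = θ p := by
    intro W w eta heta p z hz hne
    apply DSmap_inj (T := W) (S := S)
    rw [← heta, ← hz, whiskerLeft_comp_assoc, hθ, whiskerLeft_fst_assoc]
  let ap : ∀ p, (T' p).left ⟶ C.left := fun p => (toUnit (T' p) ≫ TwC.pt S I ⟨θ p⟩).left
  have hcompat : ∀ p q : T.left, pullback.fst (v p).left (v q).left ≫ ap p =
      pullback.snd (v p).left (v q).left ≫ ap q := by
    intro p q
    let W : Over S := Over.mk ((pullback.fst (v p).left (v q).left ≫ (v p).left) ≫ T.hom)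
    let a : W ⟶ T' p := Over.homMk (pullback.fst _ _) (by
      show _ ≫ (T' p).hom = (_ ≫ (v p).left) ≫ T.hom
      rw [Category.assoc, Over.w (v p)])
    let b : W ⟶ T' q := Over.homMk (pullback.snd _ _) (by
      show _ ≫ (T' q).hom = (_ ≫ (v p).left) ≫ T.hom
      rw [pullback.condition, Category.assoc, Over.w (v q)])
    by_cases hW : IsEmpty W.left
    · exact (isInitialOfIsEmpty (X := W.left)).hom_ext _ _
    · have h1 : θ p = θ q := huniq (a ≫ v p) (θ p) (by rw [whiskerLeft_comp_assoc, hθ, whiskerLeft_fst_assoc]) b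
        (Over.OverMorphism.ext pullback.condition.symm) (not_isEmpty_iff.1 hW)
      have h2 : a ≫ toUnit (T' p) ≫ TwC.pt S I ⟨θ p⟩ = b ≫ toUnit (T' q) ≫ TwC.pt S I ⟨θ q⟩ := by
        rw [← Category.assoc, ← Category.assoc, h1, toUnit_unique (a ≫ toUnit _) (b ≫ toUnit _)]
      exact congrArg CommaMorphism.left h2
  obtain ⟨g, hg⟩ : ∃ g : T.left ⟶ C.left, ∀ p, (v p).left ≫ g = ap p :=
    ⟨𝒲.glueMorphisms ap hcompat, 𝒲.ι_glueMorphisms ap hcompat⟩
  have hgw : g ≫ C.hom = T.hom := 𝒲.hom_ext _ _ fun p => by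
    show (v p).left ≫ g ≫ C.hom = (v p).left ≫ T.hom
    rw [reassoc_of% (hg p)]
    exact (Over.w (toUnit (T' p) ≫ TwC.pt S I ⟨θ p⟩)).trans (Over.w (v p)).symm
  let a : T ⟶ C := Over.homMk g hgw
  have hva : ∀ p, v p ≫ a = toUnit (T' p) ≫ TwC.pt S I ⟨θ p⟩ := fun p => Over.OverMorphism.ext (hg p)
  have hext : ∀ {G : Over S} (f₁ f₂ : Red.DS S M ⊗ T ⟶ G),
      (∀ p, (Red.DS S M ◁ v p) ≫ f₁ = (Red.DS S M ◁ v p) ≫ f₂) → f₁ = f₂ := by
    intro G f₁ f₂ h
    apply Over.OverMorphism.ext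
    refine Scheme.Cover.hom_ext (𝒲.pullback₁ (snd (Red.DS S M) T).left) _ _ fun p => ?_
    let W : Over S := Over.mk (pullback.fst (snd (Red.DS S M) T).left (v p).left ≫ (Red.DS S M ⊗ T).hom)
    let w : W ⟶ Red.DS S M ⊗ T := Over.homMk (pullback.fst _ _) rfl
    let z : W ⟶ T' p := Over.homMk (pullback.snd (snd (Red.DS S M) T).left (v p).left) (by
      show _ ≫ (T' p).hom = _ ≫ (Red.DS S M ⊗ T).hom
      rw [← Over.w (v p), ← pullback.condition_assoc, Over.w (snd (Red.DS S M) T)])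
    have hw : w = lift (w ≫ fst _ _) z ≫ (Red.DS S M ◁ v p) := by
      rw [lift_whiskerLeft]
      apply CartesianMonoidalCategory.hom_ext
      · rw [lift_fst]
      · rw [lift_snd]; exact Over.OverMorphism.ext pullback.condition
    have h2 : w ≫ f₁ = w ≫ f₂ := by rw [hw, Category.assoc, Category.assoc, h]
    exact congrArg CommaMorphism.left h2
  refine ⟨a, hext _ _ fun p => ?_, fun b hb => ?_⟩
  · rw [← whiskerLeft_comp_assoc, hva, hptT, hθ]
  · apply Over.OverMorphism.ext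
    refine 𝒲.hom_ext _ _ fun p => ?_
    show (v p).left ≫ b.left = (v p).left ≫ a.left
    refine Scheme.Cover.hom_ext (𝒰.pullback₁ ((v p).left ≫ b.left)) _ _ fun eta => ?_
    let W : Over S := Over.mk (pullback.fst ((v p).left ≫ b.left) (𝒰.f eta) ≫ (T' p).hom)
    let z : W ⟶ T' p := Over.homMk (pullback.fst _ _) rfl
    have hz : (z ≫ v p) ≫ b = toUnit W ≫ TwC.pt S I eta := by
      apply Over.OverMorphism.ext
      show (pullback.fst _ _ ≫ (v p).left) ≫ b.left = (toUnit W).left ≫ 𝒰.f eta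
      rw [Category.assoc, pullback.condition]
      congr 1
      have h2 : pullback.snd ((v p).left ≫ b.left) (𝒰.f eta) = pullback.fst _ _ ≫ (T' p).hom := by
        rw [← Over.w (v p ≫ b), Over.comp_left, ← Category.assoc, pullback.condition, Category.assoc]
        show _ = _ ≫ Sigma.ι (fun _ : I => S) eta ≫ Sigma.desc (fun _ => 𝟙 S)
        rw [Sigma.ι_desc, Category.comp_id]
      exact h2
    have h4 : z ≫ v p ≫ b = z ≫ v p ≫ a := by
      by_cases hW : IsEmpty W.left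
      · exact Over.OverMorphism.ext ((isInitialOfIsEmpty (X := W.left)).hom_ext _ _)
      · have h1 : eta.down = θ p := huniq (z ≫ v p) eta.down (by
          rw [← hb, ← whiskerLeft_comp_assoc, hz, hptT]) z rfl (not_isEmpty_iff.1 hW)
        rw [← Category.assoc, hz, hva, ← Category.assoc, ← h1, toUnit_unique (z ≫ toUnit _) (toUnit W)]
        rfl
    exact congrArg CommaMorphism.left h4

end Groth.Agent.HomDiag
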