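import Groth.Prelude.Def_AlgSp
import Groth.Agent.AlgSpLib.RepDescent
import Groth.Agent.AlgSpLib.FpqcRep
import Groth.Agent.HomRep.BC
import Groth.Agent.FpqcDescent.Sep

/-!
# Representability of homomorphisms descends along étale coverings
-/

set_option autoImplicit false
set_option linter.style.haveILetI false
set_option backward.isDefEq.respectTransparency false
set_option maxHeartbeats 1000000
set_option synthInstance.maxHeartbeats 400000

universe u

open CategoryTheory Limits Opposite MonoidalCategory CartesianMonoidalCategory AlgebraicGeometry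
open scoped CategoryTheory.Obj MonObj

noncomputable section

namespace Groth.Agent.HomDiag

open Groth.Agent.HomRep (famBC)
open Groth.Agent.AlgSpLib
open AlgSp (yon J Sp)

variable {S : Scheme.{u}} (H G : Over S) [GrpObj H] [GrpObj G]

theorem isHomFamily_res {T T' : Over S} {φ : H ⊗ T ⟶ G}
    (h : AutFam.IsHomFamily H G φ) (v : T' ⟶ T) : AutFam.IsHomFamily H G ((H ◁ v) ≫ φ) := fun X a b t => by
  rw [lift_whiskerLeft_assoc, lift_whiskerLeft_assoc, lift_whiskerLeft_assoc]
  exact h X a b (t ≫ v)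

/-- the presheaf of families of homomorphisms -/
def famP : (Over S)ᵒᵖ ⥤ Type (u + 1) where
  obj T := ULift.{u + 1} {φ : H ⊗ T.unop ⟶ G // AutFam.IsHomFamily H G φ}
  map v := ↾ fun φ => ⟨⟨(H ◁ v.unop) ≫ φ.down.1, isHomFamily_res H G φ.down.2 v.unop⟩⟩
  map_id T := by
    ext φ
    show ((H ◁ 𝟙 _) ≫ φ.down.1).left = φ.down.1.left
    rw [whiskerLeft_id, Category.id_comp]
  map_comp v w := by
    ext φ
    show ((H ◁ (w.unop ≫ v.unop)) ≫ φ.down.1).left = ((H ◁ w.unop) ≫ (H ◁ v.unop) ≫ φ.down.1).left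
    rw [whiskerLeft_comp, Category.assoc]

theorem famP_ext {T : (Over S)ᵒᵖ} {a b : (famP H G).obj T} (h : a.down.1 = b.down.1) : a = b :=
  ULift.ext _ _ (Subtype.ext h)

theorem isSheaf_famP : Presieve.IsSheaf (J S) (famP H G) := by
  intro T R hR x hx
  have hG : Presieve.IsSheaf (J S) (yoneda.obj G) :=
    GrothendieckTopology.Subcanonical.isSheaf_of_isRepresentable _
  let R' : Sieve (H ⊗ T) := R.pullback (snd H T)
  have hR' : R' ∈ J S (H ⊗ T) := (J S).pullback_stable (snd H T) hR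
  have hxn : ∀ {Y Z : Over S} (g : Z ⟶ Y) (f : Y ⟶ T) (hf : R.arrows f) (f' : Z ⟶ T) (hf' : R.arrows f'),
      g ≫ f = f' → (H ◁ g) ≫ (x f hf).down.1 = (x f' hf').down.1 := by
    intro Y Z g f hf f' hf' e
    subst e
    have h := hx g (𝟙 Z) hf hf' (by rw [Category.id_comp])
    have h' := congrArg (fun a => a.down.1) h
    change (H ◁ g) ≫ (x f hf).down.1 = (H ◁ 𝟙 Z) ≫ _ at h'
    rwa [whiskerLeft_id, Category.id_comp] at h'
  let y : Presieve.FamilyOfElements (yoneda.obj G) R'.arrows := fun W w hw =>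
    lift (w ≫ fst H T) (𝟙 W) ≫ (x (w ≫ snd H T) hw).down.1
  have hy : y.Compatible := by
    intro W₁ W₂ Z g₁ g₂ f₁ f₂ h₁ h₂ e
    show g₁ ≫ lift (f₁ ≫ fst H T) (𝟙 W₁) ≫ _ = g₂ ≫ lift (f₂ ≫ fst H T) (𝟙 W₂) ≫ _
    rw [comp_lift_assoc, comp_lift_assoc, Category.comp_id, Category.comp_id]
    have h3 : R.arrows ((g₁ ≫ f₁) ≫ snd H T) := by
      rw [Category.assoc]; exact R.downward_closed h₁ g₁
    rw [show lift (g₁ ≫ f₁ ≫ fst H T) g₁ = lift (g₁ ≫ f₁ ≫ fst H T) (𝟙 Z) ≫ (H ◁ g₁) by
        rw [lift_whiskerLeft, Category.id_comp],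
      show lift (g₂ ≫ f₂ ≫ fst H T) g₂ = lift (g₂ ≫ f₂ ≫ fst H T) (𝟙 Z) ≫ (H ◁ g₂) by
        rw [lift_whiskerLeft, Category.id_comp],
      Category.assoc, Category.assoc,
      hxn g₁ _ h₁ _ h3 (Category.assoc _ _ _).symm,
      hxn g₂ _ h₂ _ h3 (by rw [e, Category.assoc]),
      show g₂ ≫ f₂ ≫ fst H T = g₁ ≫ f₁ ≫ fst H T by rw [reassoc_of% e]]
  obtain ⟨z, hz, hzu⟩ := hG R' hR' y hy
  have hsep : ∀ {Y : Over S} (P : Sieve Y) (_ : P ∈ J S Y) (a b : Y ⟶ G),
      (∀ ⦃W : Over S⦄ (w : W ⟶ Y), P.arrows w → w ≫ a = w ≫ b) → a = b :=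
    fun P hP a b h => (hG P hP).isSeparatedFor.ext h
  have hzR : ∀ {Y : Over S} (f : Y ⟶ T) (hf : R.arrows f), (H ◁ f) ≫ z = (x f hf).down.1 := by
    intro Y f hf
    have hu : R'.arrows (H ◁ f) := by
      show R.arrows ((H ◁ f) ≫ snd H T)
      rw [whiskerLeft_snd]
      exact R.downward_closed hf _
    refine (hz (H ◁ f) hu).trans ?_
    show lift ((H ◁ f) ≫ fst H T) (𝟙 _) ≫ (x ((H ◁ f) ≫ snd H T) hu).down.1 = _
    rw [← hxn (snd H Y) f hf _ hu (whiskerLeft_snd H f).symm, ← Category.assoc, lift_whiskerLeft,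
      Category.id_comp, whiskerLeft_fst, lift_fst_snd, Category.id_comp]
  have hfam : AutFam.IsHomFamily H G z := by
    intro W a b t
    refine hsep (R.pullback t) ((J S).pullback_stable t hR) _ _ fun V v hv => ?_
    have hl : ∀ c : W ⟶ H, v ≫ lift c t ≫ z = lift (v ≫ c) (𝟙 V) ≫ (x (v ≫ t) hv).down.1 := fun c => by
      rw [← hzR (v ≫ t) hv, lift_whiskerLeft_assoc, comp_lift_assoc, Category.id_comp]
    rw [hl, MonObj.comp_mul, MonObj.comp_mul, hl, hl]
    exact (x (v ≫ t) hv).down.2 V (v ≫ a) (v ≫ b) (𝟙 V)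
  refine ⟨⟨⟨z, hfam⟩⟩, fun Y f hf => famP_ext H G (hzR f hf), fun q hq => famP_ext H G (hzu _ ?_)⟩
  intro W w hw
  show w ≫ q.down.1 = lift (w ≫ fst H T) (𝟙 W) ≫ _
  rw [← show (H ◁ (w ≫ snd H T)) ≫ q.down.1 = _ from congrArg (fun a => a.down.1) (hq (w ≫ snd H T) hw),
    lift_whiskerLeft_assoc, Category.id_comp]
  congr 1
  apply CartesianMonoidalCategory.hom_ext <;> simp

/-- the sheaf of families of homomorphisms -/
def famSheaf : Sp S := ⟨famP H G, (isSheaf_iff_isSheaf_of_type _ _).2 (isSheaf_famP H G)⟩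

/-- a family as a point of the sheaf -/
def famPt {T : Over S} (φ : H ⊗ T ⟶ G) (hφ : AutFam.IsHomFamily H G φ) : (yon S).obj T ⟶ famSheaf H G :=
  (J S).uliftYonedaEquiv.symm ⟨⟨φ, hφ⟩⟩

theorem famPt_inj {T : Over S} {φ φ' : H ⊗ T ⟶ G} {hφ hφ'} (h : famPt H G φ hφ = famPt H G φ' hφ') :
    φ = φ' :=
  congrArg (fun a => a.down.1) ((J S).uliftYonedaEquiv.symm.injective h)

theorem map_famPt {T T' : Over S} (v : T' ⟶ T) (φ : H ⊗ T ⟶ G) (hφ : AutFam.IsHomFamily H G φ) :
    (yon S).map v ≫ famPt H G φ hφ = famPt H G ((H ◁ v) ≫ φ) (isHomFamily_res H G hφ v) := by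
  rw [famPt, GrothendieckTopology.uliftYonedaEquiv_symm_naturality_left]
  rfl

theorem exists_famPt {T : Over S} (ζ : (yon S).obj T ⟶ famSheaf H G) :
    ∃ (φ : H ⊗ T ⟶ G) (hφ : AutFam.IsHomFamily H G φ), famPt H G φ hφ = ζ :=
  ⟨((J S).uliftYonedaEquiv ζ).down.1, ((J S).uliftYonedaEquiv ζ).down.2, (J S).uliftYonedaEquiv.symm_apply_apply ζ⟩

/-- the projection to the base -/
def famπ : famSheaf H G ⟶ (yon S).obj (Over.mk (𝟙 S)) :=
  ⟨{ app := fun T => ↾ fun _ => ⟨(Over.homMk T.unop.hom (Category.comp_id _) : T.unop ⟶ Over.mk (𝟙 S))⟩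
     naturality := fun T T' v => by
       ext φ
       apply ULift.ext
       apply Over.OverMorphism.ext
       exact (Over.w v.unop).symm }⟩

theorem yon_terminal_ext {Z : Sp S} (a b : Z ⟶ (yon S).obj (Over.mk (𝟙 S))) : a = b := by
  refine Sheaf.hom_ext ?_
  ext T z
  exact ULift.ext _ _ (Over.OverMorphism.ext ((Category.comp_id _).symm.trans
    ((Over.w (a.hom.app T z).down).trans ((Over.w (b.hom.app T z).down).symm.trans (Category.comp_id _)))))

variable {H G}

/-- **Representability of homomorphisms descends along étale coverings.** -/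
theorem exists_representsHom_of_etale
    (hloc : ∀ s : S, ∃ (S' : Scheme.{u}) (f : S' ⟶ S), Etale f ∧ s ∈ Set.range f.base ∧
      ∃ (A' : Over S') (υ' : Red.bc f H ⊗ A' ⟶ Red.bc f G),
        AutFam.RepresentsHom (Red.bc f H) (Red.bc f G) A' υ' ∧ IsSeparated A'.hom ∧ Etale A'.hom) :
    ∃ (A : Over S) (υ : H ⊗ A ⟶ G), AutFam.RepresentsHom H G A υ := by
  choose S' f hf hs A' υ' hA' hqa using hloc
  haveI := hf
  let Z := famSheaf H G
  let T' : Over S := Over.mk (Sigma.desc f)
  let h : T' ⟶ Over.mk (𝟙 S) := Over.homMk (Sigma.desc f) (Category.comp_id _)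
  haveI : Etale h.left := (IsZariskiLocalAtSource.iff_of_openCover (P := @Etale) (sigmaOpenCover S')).2
    fun s => by
      show Etale (Sigma.ι S' s ≫ Sigma.desc f)
      rw [Sigma.ι_desc]
      exact hf s
  haveI : Surjective h.left := ⟨fun s => by
    obtain ⟨x, hx⟩ := hs s
    refine ⟨Sigma.ι S' s x, ?_⟩
    show (Sigma.desc f) (Sigma.ι S' s x) = s
    rw [← Scheme.Hom.comp_apply, Sigma.ι_desc]
    exact hx⟩
  let Z' := pullback (famπ H G) ((yon S).map h)
  let π' : Z' ⟶ (yon S).obj T' := pullback.snd _ _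
  have key : ∀ s, ∃ (V : Over S) (v : V ⟶ Over.mk (f s)) (z : (yon S).obj V ⟶ Z'),
      IsPullback z ((yon S).map v) π' ((yon S).map (sigmaInj f s)) ∧
        (@IsSeparated ⊓ @Etale : MorphismProperty Scheme.{u}) v.left := by
    intro s
    obtain ⟨φ₀, hφ₀⟩ := (Groth.Agent.HomRep.famBC_bijective (f s) H G (A' s)).2 (υ' s)
    have hfam : AutFam.IsHomFamily H G φ₀ :=
      (Groth.Agent.HomRep.isHomFamily_famBC (f s) φ₀).1 (hφ₀ ▸ (hA' s).1)
    let V : Over S := (Over.map (f s)).obj (A' s)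
    let v : V ⟶ Over.mk (f s) := Over.homMk (A' s).hom rfl
    let z₀ : (yon S).obj V ⟶ Z := famPt H G φ₀ hfam
    let z : (yon S).obj V ⟶ Z' := pullback.lift z₀ ((yon S).map (v ≫ sigmaInj f s)) (yon_terminal_ext _ _)
    refine ⟨V, v, z, ?_, hqa s⟩
    refine IsPullback.of_right ?_ (by rw [pullback.lift_snd, Functor.map_comp]) (IsPullback.of_hasPullback _ _)
    rw [pullback.lift_fst, ← Functor.map_comp]
    -- `V` is the base change
    let P := pullback (famπ H G) ((yon S).map (sigmaInj f s ≫ h))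
    let c : (yon S).obj V ⟶ P := pullback.lift z₀ ((yon S).map v) (yon_terminal_ext _ _)
    haveI : IsIso c := by
      refine isIso_of_points c fun X => ⟨fun a b e => ?_, fun ζ => ?_⟩
      · obtain ⟨a, rfl⟩ := exists_map_eq a
        obtain ⟨b, rfl⟩ := exists_map_eq b
        have e1 := congrArg (· ≫ pullback.fst _ _) e
        have e2 := congrArg (· ≫ pullback.snd _ _) e
        simp only [Category.assoc, c, pullback.lift_fst, pullback.lift_snd, ← Functor.map_comp] at e1 e2
        have e2' : a.left ≫ (A' s).hom = b.left ≫ (A' s).hom :=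
          congrArg CommaMorphism.left ((yon S).map_injective e2)
        rw [map_famPt, map_famPt] at e1
        let X' : Over (S' s) := Over.mk (a.left ≫ (A' s).hom)
        let i : (Over.map (f s)).obj X' ⟶ X := Over.homMk (𝟙 _) (by
          show 𝟙 X.left ≫ X.hom = (a.left ≫ (A' s).hom) ≫ f s
          rw [Category.id_comp, ← Over.w a, Category.assoc]
          rfl)
        let a' : X' ⟶ A' s := Over.homMk a.left rfl
        let b' : X' ⟶ A' s := Over.homMk b.left e2'.symm
        have ha : (Over.map (f s)).map a' = i ≫ a := Over.OverMorphism.ext (Category.id_comp _).symm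
        have hb : (Over.map (f s)).map b' = i ≫ b := Over.OverMorphism.ext (Category.id_comp _).symm
        have hab : a' = b' := by
          refine ((hA' s).2 X' _ (fun Y g₁ g₂ t => ?_)).unique (y₁ := a') (y₂ := b') rfl ?_
          · rw [lift_whiskerLeft_assoc, lift_whiskerLeft_assoc, lift_whiskerLeft_assoc]
            exact (hA' s).1 Y g₁ g₂ (t ≫ a')
          · show _ ≫ υ' s = _ ≫ υ' s
            rw [← hφ₀, Groth.Agent.HomRep.famBC_whiskerLeft, Groth.Agent.HomRep.famBC_whiskerLeft, ha, hb,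
              whiskerLeft_comp_assoc, whiskerLeft_comp_assoc, famPt_inj H G e1]
        exact congrArg (yon S).map (Over.OverMorphism.ext (congrArg (fun k : X' ⟶ A' s => k.left) hab))
      · obtain ⟨t, ht⟩ := exists_map_eq (ζ ≫ pullback.snd _ _)
        obtain ⟨φ, hφ, hζ⟩ := exists_famPt H G (ζ ≫ pullback.fst _ _)
        let X' : Over (S' s) := Over.mk t.left
        let i : (Over.map (f s)).obj X' ⟶ X := Over.homMk (𝟙 _) (by
          show 𝟙 X.left ≫ X.hom = t.left ≫ f s
          rw [Category.id_comp]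
          exact (Over.w t).symm)
        let i' : X ⟶ (Over.map (f s)).obj X' := Over.homMk (𝟙 _) (by
          show 𝟙 X.left ≫ t.left ≫ f s = X.hom
          rw [Category.id_comp]
          exact Over.w t)
        obtain ⟨a, ha, -⟩ := (hA' s).2 X' (famBC (f s) ((H ◁ i) ≫ φ))
          ((Groth.Agent.HomRep.isHomFamily_famBC (f s) _).2 (isHomFamily_res H G hφ i))
        rw [← hφ₀, Groth.Agent.HomRep.famBC_whiskerLeft] at ha
        have ha' := (Groth.Agent.HomRep.famBC_bijective (f s) H G X').1 ha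
        let b : X ⟶ V := i' ≫ (Over.map (f s)).map a
        have hb : (H ◁ b) ≫ φ₀ = φ := by
          rw [whiskerLeft_comp_assoc, ha', ← whiskerLeft_comp_assoc,
            show i' ≫ i = 𝟙 X from Over.OverMorphism.ext (Category.id_comp _), whiskerLeft_id, Category.id_comp]
        refine ⟨(yon S).map b, pullback.hom_ext ?_ ?_⟩
        · simp only [Category.assoc, c, pullback.lift_fst]
          show (yon S).map b ≫ famPt H G φ₀ hfam = ζ ≫ _
          rw [map_famPt, ← hζ]
          congr 1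
        · simp only [Category.assoc, c, pullback.lift_snd]
          rw [← ht, ← Functor.map_comp]
          congr 1
          apply Over.OverMorphism.ext
          show (𝟙 _ ≫ a.left) ≫ (A' s).hom = t.left
          rw [Category.id_comp]
          exact Over.w a
    exact IsPullback.of_iso_pullback ⟨yon_terminal_ext _ _⟩ (asIso c) (pullback.lift_fst _ _ _)
      (pullback.lift_snd _ _ _)
  obtain ⟨V, v, z, hz, hzπ, hv⟩ := exists_rep_sigma
    (@IsSeparated ⊓ @Etale : MorphismProperty Scheme.{u}) f π' key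
  haveI := hz
  have sq : IsPullback (z ≫ pullback.fst _ _) ((yon S).map v) (famπ H G) ((yon S).map h) :=
    IsPullback.of_iso_pullback ⟨yon_terminal_ext _ _⟩ (asIso z) rfl hzπ
  haveI : IsSeparated v.left := hv.1
  haveI : Etale v.left := hv.2
  haveI : LocallyQuasiFinite v.left := Groth.Agent.FpqcDescent.locallyQuasiFinite_of_etale _
  obtain ⟨W, w, i, g, -, -⟩ := exists_rep_of_indQA sq (Groth.Agent.QA.IndQA.of_locallyQuasiFinite v.left)
  obtain ⟨υ, hυ, hi⟩ := exists_famPt H G i.hom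
  refine ⟨W, υ, hυ, fun T φ hφ => ?_⟩
  obtain ⟨a, ha⟩ := exists_map_eq (famPt H G φ hφ ≫ i.inv)
  refine ⟨a, famPt_inj H G (hφ := isHomFamily_res H G hυ a) (hφ' := hφ) ?_, fun b hb => ?_⟩
  · rw [← map_famPt H G a υ hυ, hi, ha, Category.assoc, i.inv_hom_id, Category.comp_id]
  · refine (yon S).map_injective ?_
    rw [← cancel_mono i.hom, ha, Category.assoc, i.inv_hom_id, Category.comp_id, ← hi, map_famPt]
    congr 1

end Groth.Agent.HomDiag
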