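import Groth.Agent.HomDiag.Const
import Groth.Agent.HomDiag.Descent
import Groth.Agent.TwConst.Basic
import Groth.Agent.MTBridge.Charts

/-!
# Homomorphisms of quasi-isotrivial groups of multiplicative type; duals
-/

set_option autoImplicit false
set_option linter.style.haveILetI false
set_option backward.isDefEq.respectTransparency false
set_option maxHeartbeats 1000000
set_option synthInstance.maxHeartbeats 400000

universe u

open CategoryTheory Limits Opposite MonoidalCategory CartesianMonoidalCategory AlgebraicGeometry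
open scoped CategoryTheory.Obj MonObj

noncomputable section

namespace Groth.Agent.HomDiag

open Groth.Agent.MTBridge (bcDS nonempty_bc_split toBC toBC_mul)
open Groth.Agent.HomRep (famBC exists_representsHom_bc exists_representsHom_iso)

variable {S : Scheme.{u}}

/-- the group structure of a diagonalisable group over the integers -/
local instance (priority := high) diagGrp (M : Type) [AddCommGroup M] :
    GrpObj (Red.diag (ULift.{u} ℤ) M) :=
  (Groth.Agent.MTBridge.specGrp (ULift.{u} ℤ) (ZA.{u} M)).grp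

theorem const_props (I : Type u) :
    IsSeparated (TwC.const S I).hom ∧ Etale (TwC.const S I).hom := by
  let s : Groth.Agent.TwConst.Split (TwC.const S I).hom :=
    { I := I
      σ := fun i => Sigma.ι (fun _ : I => S) i
      comp := fun i => Sigma.ι_desc _ _
      isOpen := fun i => inferInstance
      cover := fun z => by
        obtain ⟨⟨i, y⟩, hy⟩ := (sigmaMk (fun _ : I => S)).surjective z
        exact ⟨i, y, (sigmaMk_mk (fun _ : I => S) i y).symm.trans hy⟩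
      disj := fun i j h => by
        have hd := TopologicalSpace.Opens.coe_disjoint.2 (disjoint_opensRange_sigmaι (fun _ : I => S) i j h)
        exact hd }
  exact ⟨s.isSeparated, s.etale⟩

/-- the representing schemes of a functor of homomorphisms are isomorphic compatibly with the families -/
theorem exists_iso_of_represents {H G A A' : Over S} [GrpObj H] [GrpObj G] {υ : H ⊗ A ⟶ G} {υ' : H ⊗ A' ⟶ G}
    (hA : AutFam.RepresentsHom H G A υ) (hA' : AutFam.RepresentsHom H G A' υ') :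
    ∃ e : A ≅ A', (H ◁ e.hom) ≫ υ' = υ := by
  obtain ⟨a, ha, -⟩ := hA'.2 A υ hA.1
  obtain ⟨b, hb, -⟩ := hA.2 A' υ' hA'.1
  refine ⟨⟨a, b, (hA.2 A υ hA.1).unique ?_ ?_, (hA'.2 A' υ' hA'.1).unique ?_ ?_⟩, ha⟩
  · rw [whiskerLeft_comp_assoc, hb, ha]
  · rw [whiskerLeft_id, Category.id_comp]
  · rw [whiskerLeft_comp_assoc, ha, hb]
  · rw [whiskerLeft_id, Category.id_comp]

theorem exists_rep_split {H G : Over S} [GrpObj H] [GrpObj G] {M N : Type} [AddCommGroup M] [AddCommGroup N]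
    [AddGroup.FG N] (eH : Grp.mk H ≅ Grp.mk (Red.DS S M)) (eG : Grp.mk G ≅ Grp.mk (Red.DS S N)) :
    ∃ υ : H ⊗ TwC.const S (ULift.{u} (N →+ M)) ⟶ G,
      AutFam.RepresentsHom H G (TwC.const S (ULift.{u} (N →+ M))) υ := by
  obtain ⟨υ, hυ, -⟩ := exists_representsHom_DS (S := S) (M := M) (N := N)
  let e : Red.DS S M ≅ H := (Grp.forget _).mapIso eH.symm
  let f : Red.DS S N ≅ G := (Grp.forget _).mapIso eG.symm
  haveI : IsMonHom e.hom := inferInstanceAs (IsMonHom eH.inv.hom.hom)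
  haveI : IsMonHom f.hom := inferInstanceAs (IsMonHom eG.inv.hom.hom)
  exact exists_representsHom_iso e f hυ

/-- **Homomorphisms of quasi-isotrivial groups of multiplicative type are represented by a twisted constant
scheme.** -/
theorem exists_hom_twConst (H G : Over S) [GrpObj H] [GrpObj G]
    (hH : TwC.Locally S TwC.Topology.etale (fun S' f => ∃ (M : Type) (_ : AddCommGroup M),
      Nonempty (Grp.mk (Red.bc f H) ≅ Grp.mk (Red.DS S' M))))
    (hG : TwC.Locally S TwC.Topology.etale (fun S' f => ∃ (M : Type) (_ : AddCommGroup M),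
      AddGroup.FG M ∧ Nonempty (Grp.mk (Red.bc f G) ≅ Grp.mk (Red.DS S' M)))) :
    ∃ (A : Over S) (υ : H ⊗ A ⟶ G), AutFam.RepresentsHom H G A υ ∧ TwC.IsTwConst TwC.Topology.etale A := by
  have hloc : ∀ s : S, ∃ (S' : Scheme.{u}) (f : S' ⟶ S), Etale f ∧ s ∈ Set.range f.base ∧
      ∃ (I : Type u) (υ' : Red.bc f H ⊗ TwC.const S' I ⟶ Red.bc f G),
        AutFam.RepresentsHom (Red.bc f H) (Red.bc f G) (TwC.const S' I) υ' := by
    intro s
    obtain ⟨S₁, f₁, hf₁, ⟨x₁, hx₁⟩, M, _, hM⟩ := hH s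
    obtain ⟨S₂, f₂, hf₂, ⟨x₂, hx₂⟩, N, _, hNfg, hN⟩ := hG s
    haveI := hf₁
    haveI := hf₂
    obtain ⟨w, hw₁, hw₂⟩ := Scheme.Pullback.exists_preimage_pullback (f := f₁) (g := f₂) x₁ x₂ (hx₁.trans hx₂.symm)
    let f := pullback.fst f₁ f₂ ≫ f₁
    obtain ⟨eH⟩ := nonempty_bc_split hM (pullback.fst f₁ f₂)
    obtain ⟨eG⟩ : Nonempty (Grp.mk (Red.bc f G) ≅ Grp.mk (Red.DS (pullback f₁ f₂) N)) := by
      obtain ⟨e⟩ := nonempty_bc_split hN (pullback.snd f₁ f₂)
      exact ⟨Groth.Agent.MTBridge.bcCongr pullback.condition G ≪≫ e⟩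
    obtain ⟨υ', hυ'⟩ := exists_rep_split eH eG
    refine ⟨_, f, inferInstanceAs (Etale (pullback.fst f₁ f₂ ≫ f₁)), ⟨w, ?_⟩, _, υ', hυ'⟩
    show f₁ (pullback.fst f₁ f₂ w) = s
    rw [hw₁]
    exact hx₁
  obtain ⟨A, υ, hA⟩ := exists_representsHom_of_etale (H := H) (G := G) fun s => by
    obtain ⟨S', f, hf, hs, I, υ', hυ'⟩ := hloc s
    exact ⟨S', f, hf, hs, _, υ', hυ', const_props I⟩
  refine ⟨A, υ, hA, fun s => ?_⟩
  obtain ⟨S', f, hf, hs, I, υ', hυ'⟩ := hloc s
  obtain ⟨υb, hb⟩ := exists_representsHom_bc f hA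
  obtain ⟨e, -⟩ := exists_iso_of_represents hb hυ'
  exact ⟨S', f, hf, hs, I, ⟨e⟩⟩

theorem represents_transport {G G' H H' A : Over S} [GrpObj G] [GrpObj G'] [GrpObj H] [GrpObj H']
    (e : G ≅ G') [IsMonHom e.hom] (f : H ≅ H') [IsMonHom f.hom] {υ : G ⊗ A ⟶ H}
    (hA : AutFam.RepresentsHom G H A υ) :
    AutFam.RepresentsHom G' H' A ((e.inv ▷ A) ≫ υ ≫ f.hom) := by
  refine ⟨fun X a b t => ?_, fun T φ hφ => ?_⟩
  · rw [lift_whiskerRight_assoc, lift_whiskerRight_assoc, lift_whiskerRight_assoc, MonObj.mul_comp,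
      reassoc_of% (hA.1 X (a ≫ e.inv) (b ≫ e.inv) t), MonObj.mul_comp, Category.assoc, Category.assoc]
  · obtain ⟨v, hv, huv⟩ := hA.2 T ((e.hom ▷ T) ≫ φ ≫ f.inv) (fun X a b t => by
      rw [lift_whiskerRight_assoc, lift_whiskerRight_assoc, lift_whiskerRight_assoc, MonObj.mul_comp,
        reassoc_of% (hφ X (a ≫ e.hom) (b ≫ e.hom) t), MonObj.mul_comp, Category.assoc, Category.assoc])
    have key : ∀ w, ((G' ◁ w) ≫ (e.inv ▷ A) ≫ υ ≫ f.hom = φ ↔ (G ◁ w) ≫ υ = (e.hom ▷ T) ≫ φ ≫ f.inv) := by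
      intro w
      rw [whisker_exchange_assoc, ← cancel_epi (e.hom ▷ T), ← comp_whiskerRight_assoc, Iso.hom_inv_id,
        id_whiskerRight, Category.id_comp, ← Category.assoc, ← Iso.eq_comp_inv, Category.assoc]
    exact ⟨v, (key v).2 hv, fun w hw => huv w ((key w).1 hw)⟩

section Dual

theorem gm_comm {X : Over S} (a b : X ⟶ Red.Gm S) : a * b = b * a :=
  ch_ext fun m => by rw [ch_mul, ch_mul, mul_comm]

variable (H : Over S) [GrpObj H]

/-- the group of families of characters -/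
def charSubgroup (T : Over S) : Subgroup (H ⊗ T ⟶ Red.Gm S) where
  carrier := {φ | AutFam.IsHomFamily H (Red.Gm S) φ}
  one_mem' := fun X a b t => by simp [MonObj.comp_one]
  mul_mem' := fun {φ ψ} hφ hψ X a b t => by
    rw [MonObj.comp_mul, MonObj.comp_mul, MonObj.comp_mul, hφ X a b t, hψ X a b t, mul_assoc, mul_assoc]
    congr 1
    rw [← mul_assoc, gm_comm (lift b t ≫ φ), mul_assoc]
  inv_mem' := fun {φ} hφ X a b t => by
    rw [GrpObj.comp_inv, GrpObj.comp_inv, GrpObj.comp_inv, hφ X a b t, mul_inv_rev, gm_comm]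

/-- the presheaf of character groups -/
def charFunctor : (Over S)ᵒᵖ ⥤ GrpCat.{u} where
  obj T := GrpCat.of (charSubgroup H T.unop)
  map v := GrpCat.ofHom
    { toFun := fun φ => ⟨(H ◁ v.unop) ≫ φ.1, isHomFamily_res H (Red.Gm S) φ.2 v.unop⟩
      map_one' := Subtype.ext (by
        show (H ◁ v.unop) ≫ (1 : _ ⟶ Red.Gm S) = 1
        rw [MonObj.comp_one])
      map_mul' := fun a b => Subtype.ext (by
        show (H ◁ v.unop) ≫ (a.1 * b.1) = _
        rw [MonObj.comp_mul]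
        rfl) }
  map_id T := by
    ext φ
    show ((H ◁ 𝟙 _) ≫ φ.1).left = φ.1.left
    rw [whiskerLeft_id, Category.id_comp]
  map_comp v w := by
    ext φ
    show ((H ◁ (w.unop ≫ v.unop)) ≫ φ.1).left = ((H ◁ w.unop) ≫ (H ◁ v.unop) ≫ φ.1).left
    rw [whiskerLeft_comp, Category.assoc]

variable {H}

/-- a representing object of the characters is a group under pointwise product -/
theorem exists_grpObj {A : Over S} {υ : H ⊗ A ⟶ Red.Gm S} (hA : AutFam.RepresentsHom H (Red.Gm S) A υ) :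
    ∃ _ : GrpObj A, ∀ (X : Over S) (h : X ⟶ H) (a b : X ⟶ A),
      lift h (a * b) ≫ υ = (lift h a ≫ υ) * (lift h b ≫ υ) := by
  let α : (charFunctor H ⋙ forget _).RepresentableBy A :=
    { homEquiv := fun {T} => Equiv.ofBijective
        (fun a => (⟨(H ◁ a) ≫ υ, isHomFamily_res H (Red.Gm S) hA.1 a⟩ : charSubgroup H T))
        ⟨fun a b h => (hA.2 T _ (isHomFamily_res H (Red.Gm S) hA.1 b)).unique
            (congrArg Subtype.val h) rfl,
          fun φ => by
            obtain ⟨a, ha, -⟩ := hA.2 T φ.1 φ.2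
            exact ⟨a, Subtype.ext ha⟩⟩
      homEquiv_comp := fun v a => Subtype.ext (whiskerLeft_comp_assoc _ _ _ _) }
  letI := GrpObj.ofRepresentableBy A (charFunctor H) α
  refine ⟨inferInstance, fun X h a b => ?_⟩
  have key : (H ◁ (a * b)) ≫ υ = ((H ◁ a) ≫ υ) * ((H ◁ b) ≫ υ) :=
    congrArg Subtype.val (((yonedaGrpObjIsoOfRepresentableBy A (charFunctor H) α).hom.app (op X)).hom.map_mul a b)
  have h2 := congrArg (lift h (𝟙 X) ≫ ·) key
  simpa only [MonObj.comp_mul, lift_whiskerLeft_assoc, Category.id_comp] using h2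

variable (H)

/-- **The dual of a quasi-isotrivial group of multiplicative type is a twisted constant group.** -/
theorem exists_dual_twConstGrp
    (hH : TwC.Locally S TwC.Topology.etale (fun S' f => ∃ (M : Type) (_ : AddCommGroup M),
      Nonempty (Grp.mk (Red.bc f H) ≅ Grp.mk (Red.DS S' M)))) :
    ∃ (D : Over S) (_ : GrpObj D) (υ : H ⊗ D ⟶ Red.Gm S), AutFam.RepresentsHom H (Red.Gm S) D υ ∧
      (∀ (X : Over S) (h : X ⟶ H) (a b : X ⟶ D), lift h (a * b) ≫ υ = (lift h a ≫ υ) * (lift h b ≫ υ)) ∧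
      TwC.IsTwConstGrp TwC.Topology.etale D := by
  have hloc : ∀ s : S, ∃ (S' : Scheme.{u}) (f : S' ⟶ S), Etale f ∧ s ∈ Set.range f.base ∧
      ∃ (M : Type) (_ : AddCommGroup M) (υ' : Red.bc f H ⊗ TwC.const S' (ULift.{u} (ℤ →+ M)) ⟶ Red.bc f (Red.Gm S)),
        AutFam.RepresentsHom (Red.bc f H) (Red.bc f (Red.Gm S)) (TwC.const S' (ULift.{u} (ℤ →+ M))) υ' ∧
          ∀ (X : Over S') (x : X ⟶ Red.bc f H) (θ κ : ULift.{u} (ℤ →+ M)),
            (lift x (toUnit X ≫ TwC.pt S' _ θ) ≫ υ') * (lift x (toUnit X ≫ TwC.pt S' _ κ) ≫ υ') =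
              lift x (toUnit X ≫ TwC.pt S' _ (θ + κ)) ≫ υ' := by
    intro s
    obtain ⟨S', f, hf, hs, M, _, ⟨eH⟩⟩ := hH s
    obtain ⟨υ, hυ, hpt⟩ := exists_representsHom_DS (S := S') (M := M) (N := ℤ)
    let eG : Grp.mk (Red.bc f (Red.Gm S)) ≅ Grp.mk (Red.Gm S') := bcDS f ℤ
    let e : Red.DS S' M ≅ Red.bc f H := (Grp.forget _).mapIso eH.symm
    let g : Red.DS S' ℤ ≅ Red.bc f (Red.Gm S) := (Grp.forget _).mapIso eG.symm
    haveI : IsMonHom e.hom := inferInstanceAs (IsMonHom eH.inv.hom.hom)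
    haveI : IsMonHom g.hom := inferInstanceAs (IsMonHom eG.inv.hom.hom)
    obtain ⟨υ', hυ', hυe⟩ : ∃ υ', AutFam.RepresentsHom (Red.bc f H) (Red.bc f (Red.Gm S))
        (TwC.const S' (ULift.{u} (ℤ →+ M))) υ' ∧ υ' = (e.inv ▷ _) ≫ υ ≫ g.hom :=
      ⟨_, represents_transport e g hυ, rfl⟩
    refine ⟨S', f, hf, hs, M, inferInstance, υ', hυ', fun X x θ κ => ?_⟩
    have hl : ∀ θ : ULift.{u} (ℤ →+ M), lift x (toUnit X ≫ TwC.pt S' _ θ) ≫ υ' =
        ((x ≫ e.inv) ≫ Red.DSmap S' θ.down) ≫ g.hom := fun θ => by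
      rw [hυe, lift_whiskerRight_assoc, ← lift_whiskerLeft_assoc, reassoc_of% (hpt θ), lift_fst_assoc]
      simp only [Category.assoc]
    rw [hl, hl, hl, ← MonObj.mul_comp]
    congr 1
    refine ch_ext fun n => ?_
    rw [ch_mul, ch_DSmap, ch_DSmap, ch_DSmap, ← map_mul]
    rfl
  obtain ⟨A, υ, hA⟩ := exists_representsHom_of_etale (H := H) (G := Red.Gm S) fun s => by
    obtain ⟨S', f, hf, hs, M, _, υ', hυ', -⟩ := hloc s
    exact ⟨S', f, hf, hs, _, υ', hυ', const_props _⟩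
  obtain ⟨grp, hmul⟩ := exists_grpObj hA
  refine ⟨A, grp, υ, hA, hmul, fun s => ?_⟩
  obtain ⟨S', f, hf, hs, M, _, υ', hυ', hadd⟩ := hloc s
  let ε := ((Over.mapPullbackAdj f).homEquiv (Red.bc f A) A).symm (𝟙 _)
  have hb : AutFam.RepresentsHom (Red.bc f H) (Red.bc f (Red.Gm S)) (Red.bc f A) (famBC f ((H ◁ ε) ≫ υ)) := by
    refine ⟨(Groth.Agent.HomRep.isHomFamily_famBC f _).2 (isHomFamily_res H (Red.Gm S) hA.1 ε), fun T φ hφ => ?_⟩
    obtain ⟨φ₀, rfl⟩ := (Groth.Agent.HomRep.famBC_bijective f H (Red.Gm S) T).2 φ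
    obtain ⟨v, hv, huv⟩ := hA.2 _ φ₀ ((Groth.Agent.HomRep.isHomFamily_famBC f φ₀).mp hφ)
    have key : ∀ w : T ⟶ Red.bc f A, (Red.bc f H ◁ w) ≫ famBC f ((H ◁ ε) ≫ υ) = famBC f φ₀ ↔
        (H ◁ ((Over.mapPullbackAdj f).homEquiv T A).symm w) ≫ υ = φ₀ := by
      intro w
      rw [Groth.Agent.HomRep.famBC_whiskerLeft, (Groth.Agent.HomRep.famBC_bijective f H (Red.Gm S) T).1.eq_iff,
        ← whiskerLeft_comp_assoc,
        show (Over.map f).map w ≫ ε = ((Over.mapPullbackAdj f).homEquiv T A).symm w from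
          ((Over.mapPullbackAdj f).homEquiv_naturality_left_symm w (𝟙 _)).symm.trans
            (congrArg _ (Category.comp_id w))]
    refine ⟨(Over.mapPullbackAdj f).homEquiv T A v, (key _).mpr (by rw [Equiv.symm_apply_apply]; exact hv),
      fun w hw ↦ ?_⟩
    rw [← huv _ ((key w).mp hw), Equiv.apply_symm_apply]
  obtain ⟨e, he⟩ := exists_iso_of_represents hb hυ'
  have he' : (Red.bc f H ◁ e.inv) ≫ famBC f ((H ◁ ε) ≫ υ) = υ' := by
    rw [← he, ← whiskerLeft_comp_assoc, e.inv_hom_id, whiskerLeft_id, Category.id_comp]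
  refine ⟨S', f, hf, hs, Multiplicative (ULift.{u} (ℤ →+ M)), inferInstance, e, fun θ κ => ?_⟩
  have hbm : ∀ (X : Over S') (x : X ⟶ Red.bc f H) (a b : X ⟶ Red.bc f A),
      lift x (a * b) ≫ famBC f ((H ◁ ε) ≫ υ) =
        (lift x a ≫ famBC f ((H ◁ ε) ≫ υ)) * (lift x b ≫ famBC f ((H ◁ ε) ≫ υ)) := by
    intro X x a b
    have hadj : ∀ c : X ⟶ Red.bc f A, (Over.map f).map c ≫ ε = ((Over.mapPullbackAdj f).homEquiv X A).symm c :=
      fun c => ((Over.mapPullbackAdj f).homEquiv_naturality_left_symm c (𝟙 _)).symm.trans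
        (congrArg _ (Category.comp_id c))
    obtain ⟨a₀, rfl⟩ := ((Over.mapPullbackAdj f).homEquiv X A).surjective a
    obtain ⟨b₀, rfl⟩ := ((Over.mapPullbackAdj f).homEquiv X A).surjective b
    have hab : (Over.mapPullbackAdj f).homEquiv X A a₀ * (Over.mapPullbackAdj f).homEquiv X A b₀ =
        (Over.mapPullbackAdj f).homEquiv X A (a₀ * b₀) := (toBC_mul f a₀ b₀).symm
    rw [hab]
    simp only [Groth.Agent.HomRep.lift_famBC, lift_whiskerLeft_assoc, hadj, Equiv.symm_apply_apply, hmul,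
      toBC_mul]
  refine ((hb.2 (𝟙_ (Over S')) _ (isHomFamily_res _ _ hb.1 _)).unique (y₁ := _) rfl ?_).symm
  rw [← Category.id_comp ((Red.bc f H ◁ _) ≫ famBC f _), ← lift_fst_snd]
  conv_rhs => rw [← Category.id_comp ((Red.bc f H ◁ _) ≫ famBC f _), ← lift_fst_snd]
  rw [lift_whiskerLeft_assoc, lift_whiskerLeft_assoc]
  have hp : ∀ θ : ULift.{u} (ℤ →+ M), lift (fst (Red.bc f H) (𝟙_ _)) (snd _ _ ≫ TwC.pt S' _ θ ≫ e.inv) ≫
      famBC f ((H ◁ ε) ≫ υ) = lift (fst _ _) (toUnit _ ≫ TwC.pt S' _ θ) ≫ υ' := fun θ => by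
    rw [← he', lift_whiskerLeft_assoc, Category.assoc, toUnit_unique (snd (Red.bc f H) (𝟙_ (Over S'))) (toUnit _)]
  rw [MonObj.comp_mul, hbm]
  exact ((congrArg₂ (· * ·) (hp (Multiplicative.toAdd θ)) (hp (Multiplicative.toAdd κ))).trans
    ((hadd _ _ (Multiplicative.toAdd θ) (Multiplicative.toAdd κ)).trans
      (hp (Multiplicative.toAdd θ + Multiplicative.toAdd κ)).symm))

end Dual

end Groth.Agent.HomDiag
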